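import Mathlib

/-!
An endomorphism of prime order `q` of an irreducible elementary abelian `p`-group without fixed points is,
up to taking a power, the multiplication by a root of unity of order `q` in a field.
-/

set_option autoImplicit false

namespace Cfsg.Agent.Schmidt

open Polynomial

variable {p : ℕ} [Fact p.Prime] {q : ℕ} [Fact q.Prime] {F : Type*} [Field F] [Algebra (ZMod p) F]

theorem exists_root_kills {μ : F} (hμ : orderOf μ = q) {V : Type*} [AddCommGroup V] [Module (ZMod p) V]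
    [Nontrivial V] (U : Module.End (ZMod p) V) (hUq : U ^ q = 1) (hU1 : ∀ v, U v = v → v = 0)
    (hirr : ∀ W : Submodule (ZMod p) V, (∀ v ∈ W, U v ∈ W) → W ≠ ⊥ → W = ⊤) :
    ∃ i j : ℕ, ¬ q ∣ i ∧ (U ^ j) ^ i = U ∧ (U ^ i) ^ j = U ∧
      aeval (U ^ i) (minpoly (ZMod p) μ) = 0 := by
  classical
  have hqpos := (Fact.out : q.Prime).pos
  have hprim : IsPrimitiveRoot μ q := hμ ▸ IsPrimitiveRoot.orderOf μ
  obtain ⟨ζ, hζ, hζU⟩ : ∃ ζ ∈ nthRootsFinset q (1 : F), aeval U (minpoly (ZMod p) ζ) = 0 := by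
    have hdvd : (X ^ q - 1 : (ZMod p)[X]) ∣ ∏ ζ ∈ nthRootsFinset q (1 : F), minpoly (ZMod p) ζ := by
      rw [← map_dvd_map' (algebraMap (ZMod p) F), Polynomial.map_sub, Polynomial.map_pow, map_X,
        Polynomial.map_one, Polynomial.map_prod, X_pow_sub_one_eq_prod hqpos hprim]
      refine Finset.prod_dvd_prod_of_dvd _ _ fun ζ _ => dvd_iff_isRoot.2 ?_
      rw [IsRoot.def, eval_map, ← aeval_def, minpoly.aeval]
    have hz : aeval U (∏ ζ ∈ nthRootsFinset q (1 : F), minpoly (ZMod p) ζ) = 0 := by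
      obtain ⟨c, hc⟩ := hdvd
      rw [hc, map_mul, map_sub, map_pow, aeval_X, hUq, map_one, sub_self, zero_mul]
    by_contra hnone
    push Not at hnone
    have hcomm : ∀ g : (ZMod p)[X], ∀ v, U (aeval U g v) = aeval U g (U v) := fun g v => by
      have h : aeval U (X * g) = aeval U (g * X) := by rw [mul_comm]
      rw [map_mul, map_mul, aeval_X] at h
      exact LinearMap.congr_fun h v
    have hinj : ∀ s : Finset F, s ⊆ nthRootsFinset q (1 : F) →
        Function.Injective (aeval U (∏ ζ ∈ s, minpoly (ZMod p) ζ)) := by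
      intro s
      induction s using Finset.induction with
      | empty => intro _ v w h; simpa using h
      | insert ζ s hζs ih =>
        intro hs
        rw [Finset.prod_insert hζs, map_mul, Module.End.mul_eq_comp, LinearMap.coe_comp]
        refine Function.Injective.comp ?_ (ih fun x hx => hs (Finset.mem_insert_of_mem hx))
        rw [← LinearMap.ker_eq_bot]
        by_contra hk
        refine hnone ζ (hs (Finset.mem_insert_self ζ s))
          (LinearMap.ker_eq_top.1 (hirr _ (fun v hv => ?_) hk))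
        rw [LinearMap.mem_ker] at hv ⊢
        rw [← hcomm, hv, map_zero]
    obtain ⟨v, hv⟩ := exists_ne (0 : V)
    exact hv (hinj _ subset_rfl (by rw [hz, LinearMap.zero_apply, LinearMap.zero_apply]))
  have hζq : ζ ^ q = 1 := (mem_nthRootsFinset hqpos _).1 hζ
  have hζ1 : ζ ≠ 1 := by
    rintro rfl
    rw [minpoly.one, map_sub, aeval_X, map_one, sub_eq_zero] at hζU
    obtain ⟨v, hv⟩ := exists_ne (0 : V)
    exact hv (hU1 v (by rw [hζU]; rfl))
  obtain ⟨j, -, hj⟩ := hprim.eq_pow_of_pow_eq_one hζq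
  have hjq : ¬ q ∣ j := fun h => hζ1 (by rw [← hj]; exact (hprim.pow_eq_one_iff_dvd j).2 h)
  obtain ⟨i, hi⟩ : ∃ i : ℕ, ((i : ZMod q)) * (j : ZMod q) = 1 :=
    ⟨((j : ZMod q))⁻¹.val, by
      rw [ZMod.natCast_zmod_val, inv_mul_cancel₀ (mt (ZMod.natCast_eq_zero_iff _ _).1 hjq)]⟩
  have hmod : j * i % q = 1 := by
    have h1 : ((j * i : ℕ) : ZMod q) = ((1 : ℕ) : ZMod q) := by
      rw [Nat.cast_mul, mul_comm, hi, Nat.cast_one]
    rw [(ZMod.natCast_eq_natCast_iff' _ _ _).1 h1, Nat.mod_eq_of_lt (Fact.out : q.Prime).one_lt]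
  refine ⟨i, j, fun h => ?_, ?_, ?_, ?_⟩
  · rw [(ZMod.natCast_eq_zero_iff _ _).2 h, zero_mul] at hi
    exact zero_ne_one hi
  · rw [← pow_mul, pow_eq_pow_mod _ hUq, hmod, pow_one]
  · rw [← pow_mul, mul_comm, pow_eq_pow_mod _ hUq, hmod, pow_one]
  · have hμi : ζ ^ i = μ := by
      rw [← hj, ← pow_mul, pow_eq_pow_mod _ hprim.pow_eq_one, hmod, pow_one]
    obtain ⟨c, hc⟩ : minpoly (ZMod p) ζ ∣ (minpoly (ZMod p) μ).comp (X ^ i) :=
      minpoly.dvd _ _ (by rw [aeval_comp, map_pow, aeval_X, hμi, minpoly.aeval])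
    rw [show U ^ i = aeval U (X ^ i : (ZMod p)[X]) by rw [map_pow, aeval_X], ← aeval_comp, hc,
      map_mul, hζU, zero_mul]

theorem exists_model_module {μ : F} (hμ : orderOf μ = q)
    (hgen : Function.Surjective (aeval μ : (ZMod p)[X] → F)) {V : Type*} [AddCommGroup V]
    [Module (ZMod p) V] [Nontrivial V] (U : Module.End (ZMod p) V) (hUq : U ^ q = 1)
    (hU1 : ∀ v, U v = v → v = 0)
    (hirr : ∀ W : Submodule (ZMod p) V, (∀ v ∈ W, U v ∈ W) → W ≠ ⊥ → W = ⊤) :
    ∃ i : ℕ, ¬ q ∣ i ∧ ∃ θ : V →+ F, Function.Bijective θ ∧ ∀ v, θ ((U ^ i) v) = μ * θ v := by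
  obtain ⟨i, j, hiq, hji, hij, hkill⟩ := exists_root_kills hμ U hUq hU1 hirr
  obtain ⟨v₀, hv₀⟩ := exists_ne (0 : V)
  have hzero : ∀ g : (ZMod p)[X], aeval μ g = 0 → aeval (U ^ i) g v₀ = 0 := fun g hg => by
    obtain ⟨c, hc⟩ := minpoly.dvd (ZMod p) μ hg
    rw [hc, map_mul, hkill, zero_mul, LinearMap.zero_apply]
  have hzero' : ∀ g : (ZMod p)[X], aeval (U ^ i) g v₀ = 0 → aeval μ g = 0 := fun g hg => by
    by_contra hne
    obtain ⟨c, hc⟩ := hgen (aeval μ g)⁻¹
    have h1 := hzero (c * g - 1) (by rw [map_sub, map_mul, hc, inv_mul_cancel₀ hne, map_one, sub_self])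
    rw [map_sub, map_mul, map_one, LinearMap.sub_apply, Module.End.mul_apply, hg, map_zero, zero_sub,
      neg_eq_zero] at h1
    exact hv₀ h1
  let L : (ZMod p)[X] →ₗ[ZMod p] V := (LinearMap.applyₗ v₀).comp (aeval (U ^ i)).toLinearMap
  have hL : ∀ g, L g = aeval (U ^ i) g v₀ := fun g => rfl
  have hrange : ∀ v, ∃ g : (ZMod p)[X], L g = v := by
    have hW := hirr (LinearMap.range L) (fun v hv => ?_) ?_
    · intro v
      exact (hW ▸ Submodule.mem_top : v ∈ LinearMap.range L)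
    · obtain ⟨g, rfl⟩ := hv
      refine ⟨X ^ j * g, ?_⟩
      rw [hL, hL, map_mul, map_pow, aeval_X, hij, Module.End.mul_apply]
    · exact fun h => hv₀ ((Submodule.mem_bot (ZMod p)).1
        (h ▸ (⟨1, by simp [hL]⟩ : v₀ ∈ LinearMap.range L)))
  choose r hr using hrange
  have key : ∀ g v, L g = v → aeval μ (r v) = aeval μ g := fun g v hg => by
    rw [← sub_eq_zero, ← map_sub]
    refine hzero' _ ?_
    rw [map_sub, LinearMap.sub_apply, ← hL, ← hL, hr, hg, sub_self]
  let θ : V →+ F := AddMonoidHom.mk' (fun v => aeval μ (r v)) fun v w => by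
    rw [← map_add]
    exact key _ _ (by rw [map_add, hr, hr])
  refine ⟨i, hiq, θ, ⟨(injective_iff_map_eq_zero θ).2 fun v hv => ?_, fun y => ?_⟩, fun v => ?_⟩
  · rw [← hr v, hL]
    exact hzero _ hv
  · obtain ⟨g, rfl⟩ := hgen y
    exact ⟨L g, key g _ rfl⟩
  · show aeval μ (r ((U ^ i) v)) = μ * aeval μ (r v)
    rw [key (X * r v) ((U ^ i) v) (by rw [hL, map_mul, aeval_X, Module.End.mul_apply, ← hL, hr]),
      map_mul, aeval_X]

/-- The same for a bare additive endomorphism. -/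
theorem exists_model {μ : F} (hμ : orderOf μ = q)
    (hgen : Function.Surjective (aeval μ : (ZMod p)[X] → F)) {V : Type*} [AddCommGroup V] [Nontrivial V]
    (hexp : ∀ v : V, p • v = 0) (U : V →+ V) (hUq : ∀ v, U^[q] v = v) (hU1 : ∀ v, U v = v → v = 0)
    (hirr : ∀ W : AddSubgroup V, (∀ v ∈ W, U v ∈ W) → W ≠ ⊥ → W = ⊤) :
    ∃ i : ℕ, ¬ q ∣ i ∧ ∃ θ : V →+ F, Function.Bijective θ ∧ ∀ v, θ (U^[i] v) = μ * θ v := by
  haveI : Module (ZMod p) V := AddCommGroup.zmodModule hexp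
  let f : Module.End (ZMod p) V := AddMonoidHom.toZModLinearMap p U
  have hf : ∀ (k : ℕ) (v : V), (f ^ k) v = U^[k] v := fun k v => by
    rw [Module.End.coe_pow]; rfl
  obtain ⟨i, hiq, θ, hθ, h⟩ := exists_model_module hμ hgen f
    (LinearMap.ext fun v => by rw [hf, hUq]; rfl) hU1
    (fun W hW hW0 => by
      have := hirr W.toAddSubgroup hW fun h => hW0 (Submodule.toAddSubgroup_injective (h.trans rfl))
      exact Submodule.toAddSubgroup_injective (this.trans rfl))
  exact ⟨i, hiq, θ, hθ, fun v => by rw [← hf, h]⟩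

end Cfsg.Agent.Schmidt
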