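import Cfsg.Agent.Schmidt.Cover
import Cfsg.Agent.Schmidt.Linear
import Cfsg.Agent.PGroups.Basic

/-!
A finite `p`-group with an automorphism of prime order `q ≠ p` fixing all proper invariant subgroups pointwise
is a cover for a suitable power of the automorphism.
-/

set_option autoImplicit false

namespace Cfsg.Agent.Schmidt

open Polynomial

variable {p : ℕ} [Fact p.Prime] {q : ℕ} [Fact q.Prime] {P : Type*} [Group P] [Finite P]

omit [Fact p.Prime] [Fact q.Prime] [Finite P] in
theorem pow_mem_of_invariant {N : Subgroup P} {σ : MulAut P} (h : ∀ x ∈ N, σ x ∈ N) (k : ℕ) :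
    ∀ x ∈ N, (σ ^ k) x ∈ N := by
  induction k with
  | zero => simp
  | succ k ih => intro x hx; rw [pow_succ', MulAut.mul_apply]; exact h _ (ih x hx)

omit [Finite P] in
theorem eq_one_of_pow_q (hpq : p ≠ q) (hP : IsPGroup p P) {d : P} (hd : d ^ q = 1) : d = 1 := by
  obtain ⟨k, hk⟩ := IsPGroup.iff_orderOf.1 hP d
  have h1 : orderOf d ∣ q := orderOf_dvd_of_pow_eq_one hd
  rw [hk] at h1
  have h2 : Nat.Coprime (p ^ k) q := ((Nat.coprime_primes Fact.out Fact.out).2 hpq).pow_left k
  exact orderOf_eq_one_iff.1 (hk.trans (Nat.eq_one_of_dvd_coprimes h2 dvd_rfl h1))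

/-- Such a group is a cover. -/
theorem exists_cover_of_aut (hpq : p ≠ q) (hP : IsPGroup p P) (σ : MulAut P) (hσq : σ ^ q = 1)
    (hσ : σ ≠ 1) (hfix : ∀ N : Subgroup P, N ≠ ⊤ → (∀ x ∈ N, σ x ∈ N) → ∀ x ∈ N, σ x = x)
    {F : Type*} [Field F] [Algebra (ZMod p) F] {μ : F} (hμ : orderOf μ = q)
    (hgen : Function.Surjective (aeval μ : (ZMod p)[X] → F)) :
    ∃ i : ℕ, ¬ q ∣ i ∧ ∃ C : Cover q μ P, C.σ = σ ^ i := by
  classical
  have hμ1 : μ ≠ 1 := fun h => by
    rw [h, orderOf_one] at hμ
    exact (Fact.out : q.Prime).ne_one hμ.symm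
  have hqpos := (Fact.out : q.Prime).pos
  -- the differences generate
  have hdiff : Subgroup.closure (Set.range fun x : P => x⁻¹ * σ x) = ⊤ := by
    by_contra hne
    have hinv : ∀ x ∈ Subgroup.closure (Set.range fun x : P => x⁻¹ * σ x),
        σ x ∈ Subgroup.closure (Set.range fun x : P => x⁻¹ * σ x) := by
      intro x hx
      induction hx using Subgroup.closure_induction with
      | mem x hx =>
        obtain ⟨m, rfl⟩ := hx
        exact Subgroup.subset_closure ⟨σ m, by simp⟩
      | one => simp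
      | mul x y _ _ hx hy => rw [map_mul]; exact mul_mem hx hy
      | inv x _ hx => rw [map_inv]; exact inv_mem hx
    refine hσ (MulEquiv.ext fun x => ?_)
    set d := x⁻¹ * σ x with hd
    have hdf : σ d = d := hfix _ hne hinv d (Subgroup.subset_closure ⟨x, rfl⟩)
    have hpow : ∀ k : ℕ, (σ ^ k) x = x * d ^ k := by
      intro k
      induction k with
      | zero => simp
      | succ k ih =>
        rw [pow_succ', MulAut.mul_apply, ih, map_mul, map_pow, hdf, pow_succ', ← mul_assoc,
          show x * d = σ x by rw [hd, mul_inv_cancel_left]]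
    have h1 : d = 1 := eq_one_of_pow_q hpq hP (by
      have h := hpow q
      rw [hσq, MulAut.one_apply] at h
      exact left_eq_mul.1 h)
    rw [hd, inv_mul_eq_one] at h1
    exact h1.symm
  haveI : Nontrivial P := by
    by_contra h
    haveI := not_nontrivial_iff_subsingleton.1 h
    exact hσ (MulEquiv.ext fun x => Subsingleton.elim _ _)
  set Φ := frattini P with hΦdef
  have hΦtop : Φ ≠ ⊤ := fun h => bot_ne_top
    (frattini_nongenerating (K := (⊥ : Subgroup P)) (by rw [← hΦdef, h, sup_top_eq]))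
  have hΦinv : ∀ x ∈ Φ, σ x ∈ Φ := fun x hx => by
    have h := (Subgroup.characteristic_iff_comap_eq.1 (frattini_characteristic (G := P))) σ
    have h1 : x ∈ Subgroup.comap (σ : P ≃* P).toMonoidHom (frattini P) := by rw [h]; exact hx
    exact h1
  have hΦfix : ∀ x ∈ Φ, σ x = x := hfix Φ hΦtop hΦinv
  have hΦcen : Φ ≤ Subgroup.center P := by
    intro z hz
    have hle : (⊤ : Subgroup P) ≤ Subgroup.centralizer {z} := by
      rw [← hdiff, Subgroup.closure_le]
      rintro _ ⟨x, rfl⟩
      rw [SetLike.mem_coe, Subgroup.mem_centralizer_singleton_iff]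
      have h := hΦfix _ (Subgroup.Normal.conj_mem inferInstance z hz x)
      rw [map_mul, map_mul, map_inv, hΦfix z hz] at h
      calc x⁻¹ * σ x * z = x⁻¹ * (σ x * z * (σ x)⁻¹) * σ x := by group
        _ = x⁻¹ * (x * z * x⁻¹) * σ x := by rw [h]
        _ = z * (x⁻¹ * σ x) := by group
    exact Subgroup.mem_center_iff.2 fun g =>
      Subgroup.mem_centralizer_singleton_iff.1 (hle (Subgroup.mem_top g))
  -- the quotient as a vector space
  let Q := P ⧸ Φ
  have hcomm : ∀ a b : Q, a * b = b * a := by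
    intro a b
    obtain ⟨x, rfl⟩ := QuotientGroup.mk_surjective a
    obtain ⟨y, rfl⟩ := QuotientGroup.mk_surjective b
    change ((x * y : P) : P ⧸ Φ) = ((y * x : P) : P ⧸ Φ)
    rw [QuotientGroup.eq]
    have := PGroups.commutator_le_frattini hP (Subgroup.commutator_mem_commutator
      (Subgroup.mem_top y⁻¹) (Subgroup.mem_top x⁻¹))
    rw [commutatorElement_def, inv_inv, inv_inv] at this
    rwa [mul_inv_rev, ← mul_assoc]
  letI : CommGroup Q := { (inferInstance : Group Q) with mul_comm := hcomm }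
  have hexp : ∀ v : Additive Q, p • v = 0 := by
    intro v
    obtain ⟨x, rfl⟩ := QuotientGroup.mk_surjective (Additive.toMul v : Q)
    exact congrArg Additive.ofMul ((QuotientGroup.eq_one_iff (x ^ p)).2 (PGroups.pow_mem_frattini hP x))
  let cls : P → Additive Q := fun x => Additive.ofMul (x : Q)
  have hclssurj : Function.Surjective cls := fun v => by
    obtain ⟨x, hx⟩ := QuotientGroup.mk_surjective (Additive.toMul v : Q)
    exact ⟨x, congrArg Additive.ofMul hx⟩
  have hclsmul : ∀ x y, cls (x * y) = cls x + cls y := fun x y => rfl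
  have hcls0 : ∀ x, cls x = 0 ↔ x ∈ Φ := fun x => by
    rw [← QuotientGroup.eq_one_iff (N := Φ)]
    exact ⟨fun h => congrArg Additive.toMul h, fun h => congrArg Additive.ofMul h⟩
  let U : Additive Q →+ Additive Q :=
    MonoidHom.toAdditive (QuotientGroup.map Φ Φ σ.toMonoidHom fun x hx => hΦinv x hx)
  have hU : ∀ x, U (cls x) = cls (σ x) := fun x => rfl
  have hUpow : ∀ (k : ℕ) (x : P), U^[k] (cls x) = cls ((σ ^ k) x) := by
    intro k x
    induction k with
    | zero => rfl
    | succ k ih => rw [Function.iterate_succ_apply', ih, hU, pow_succ', MulAut.mul_apply]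
  have hU1 : ∀ v, U v = v → v = 0 := by
    have hs : Function.Surjective (fun v => U v - v) := by
      let δ : Additive Q →+ Additive Q := U - AddMonoidHom.id _
      have hr : ∀ x, cls x ∈ δ.range := by
        intro x
        have hx : x ∈ Subgroup.closure (Set.range fun x : P => x⁻¹ * σ x) := hdiff ▸ Subgroup.mem_top x
        induction hx using Subgroup.closure_induction with
        | mem x hx =>
          obtain ⟨m, rfl⟩ := hx
          refine ⟨cls m, ?_⟩
          show U (cls m) - cls m = _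
          rw [hU, hclsmul]
          show cls (σ m) - cls m = -cls m + cls (σ m)
          abel
        | one => exact zero_mem _
        | mul x y _ _ hx hy => rw [hclsmul]; exact add_mem hx hy
        | inv x _ hx => exact neg_mem hx
      intro w
      obtain ⟨x, rfl⟩ := hclssurj w
      exact hr x
    intro v hv
    exact Finite.injective_iff_surjective.2 hs
      (show U v - v = U 0 - 0 by rw [hv, sub_self, map_zero, sub_zero])
  have hirr : ∀ W : AddSubgroup (Additive Q), (∀ v ∈ W, U v ∈ W) → W ≠ ⊥ → W = ⊤ := by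
    intro W hW hW0
    by_contra hWt
    let N : Subgroup P :=
      { carrier := {x | cls x ∈ W}
        mul_mem' := fun {x y} hx hy => by show cls (x * y) ∈ W; rw [hclsmul]; exact add_mem hx hy
        one_mem' := zero_mem W
        inv_mem' := fun {x} hx => (W.neg_mem hx : -cls x ∈ W) }
    have hN : N ≠ ⊤ := fun h => hWt (eq_top_iff.2 fun v _ => by
      obtain ⟨x, rfl⟩ := hclssurj v
      exact (h ▸ Subgroup.mem_top x : x ∈ N))
    refine hW0 (eq_bot_iff.2 fun v hv => AddSubgroup.mem_bot.2 ?_)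
    obtain ⟨x, rfl⟩ := hclssurj v
    refine hU1 _ ?_
    rw [hU, hfix N hN (fun y hy => by show cls (σ y) ∈ W; rw [← hU]; exact hW _ hy) x hv]
  haveI : Nontrivial (Additive Q) := by
    obtain ⟨x, hx⟩ : ∃ x, x ∉ Φ := by
      by_contra hall
      push Not at hall
      exact hΦtop (eq_top_iff.2 fun x _ => hall x)
    exact ⟨⟨cls x, 0, fun h => hx ((hcls0 x).1 h)⟩⟩
  obtain ⟨i, hiq, θ, hθ, hθU⟩ := exists_model hμ hgen hexp U
    (fun v => by obtain ⟨x, rfl⟩ := hclssurj v; rw [hUpow, hσq]; rfl) hU1 hirr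
  let π : P →* Multiplicative F :=
    MonoidHom.mk' (fun x => Multiplicative.ofAdd (θ (cls x))) fun x y => by
      rw [hclsmul, map_add, ofAdd_add]
  have hker : π.ker = Φ := by
    ext x
    rw [MonoidHom.mem_ker, ← hcls0, ← map_eq_zero_iff θ hθ.1]
    exact ⟨fun h => Multiplicative.ofAdd.injective h, fun h => congrArg Multiplicative.ofAdd h⟩
  refine ⟨i, hiq,
    { σ := σ ^ i
      π := π
      surj := fun y => ?_
      comm := fun m => ?_
      pow_q := by rw [← pow_mul, mul_comm, pow_mul, hσq, one_pow]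
      central := hker.symm ▸ hΦcen
      fix := fun m hm => ?_
      min := fun N hN hmap => ?_ }, rfl⟩
  · obtain ⟨v, hv⟩ := hθ.2 y.toAdd
    obtain ⟨x, rfl⟩ := hclssurj v
    exact ⟨x, Multiplicative.toAdd.injective hv⟩
  · show θ (cls ((σ ^ i) m)) = μ * θ (cls m)
    rw [← hUpow, hθU]
  · rw [hker] at hm
    have : ∀ k : ℕ, (σ ^ k) m = m := fun k => by
      induction k with
      | zero => rfl
      | succ k ih => rw [pow_succ', MulAut.mul_apply, ih, hΦfix m hm]
    exact this i
  · by_contra hne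
    obtain ⟨j, hj⟩ : ∃ j : ℕ, (σ ^ i) ^ j = σ := by
      refine ⟨((i : ZMod q))⁻¹.val, ?_⟩
      have h1 : ((i * ((i : ZMod q))⁻¹.val : ℕ) : ZMod q) = ((1 : ℕ) : ZMod q) := by
        rw [Nat.cast_mul, ZMod.natCast_zmod_val, Nat.cast_one,
          mul_inv_cancel₀ (mt (ZMod.natCast_eq_zero_iff _ _).1 hiq)]
      rw [← pow_mul, pow_eq_pow_mod _ hσq, (ZMod.natCast_eq_natCast_iff' _ _ _).1 h1,
        Nat.mod_eq_of_lt (Fact.out : q.Prime).one_lt, pow_one]
    have hN' : ∀ x ∈ N, σ x ∈ N := fun x hx => by rw [← hj]; exact pow_mem_of_invariant hN j x hx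
    obtain ⟨x, hx, hxy⟩ : Multiplicative.ofAdd (1 : F) ∈ N.map π := hmap ▸ Subgroup.mem_top _
    have hxy' : θ (cls x) = 1 := Multiplicative.ofAdd.injective hxy
    have h2 := congrArg θ (hUpow i x)
    have h3 : ∀ k : ℕ, (σ ^ k) x = x := fun k => by
      induction k with
      | zero => rfl
      | succ k ih => rw [pow_succ', MulAut.mul_apply, ih, hfix N hne hN' x hx]
    exact hμ1 (by rw [hθU, hxy', h3, hxy', mul_one] at h2; exact h2)

end Cfsg.Agent.Schmidt
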