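import Cfsg.Agent.Schmidt.Example
import Cfsg.Agent.Schmidt.OfAut
import Cfsg.Agent.Fusion.PComplement
import Cfsg.Agent.S0132

/-!
The semidirect product of a cover with a cyclic `q`-group is minimal non-`p`-nilpotent, the covers of largest
order map onto all covers, and every minimal non-`p`-nilpotent group of order `p ^ t * q ^ r` carries a cover.
-/

set_option autoImplicit false

namespace Cfsg.Agent.Schmidt

open Polynomial

universe v w

variable {p : ℕ} [Fact p.Prime] {q : ℕ} [Fact q.Prime] {F : Type*} [Field F] {μ : F}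

section Semidirect

variable {M : Type v} [Group M] (C : Cover q μ M) {r : ℕ}

theorem Cover.pow_pow_eq_one (hr : 1 ≤ r) : C.σ ^ q ^ r = 1 := by
  obtain ⟨k, rfl⟩ : ∃ k, r = k + 1 := ⟨r - 1, by omega⟩
  rw [pow_succ', pow_mul, C.pow_q, one_pow]

/-- The action of the cyclic group of order `q ^ r`. -/
def Cover.act (hr : 1 ≤ r) : Multiplicative (ZMod (q ^ r)) →* MulAut M :=
  haveI : NeZero (q ^ r) := ⟨pow_ne_zero _ (Fact.out : q.Prime).ne_zero⟩
  MonoidHom.mk' (fun k => C.σ ^ k.toAdd.val) fun x y => by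
    rw [toAdd_mul, ZMod.val_add, ← pow_add]
    exact (pow_eq_pow_mod _ (C.pow_pow_eq_one hr)).symm

theorem Cover.act_apply (hr : 1 ≤ r) (k : Multiplicative (ZMod (q ^ r))) :
    C.act hr k = C.σ ^ k.toAdd.val := rfl

omit [Fact q.Prime] in
theorem Cover.isPGroup [Finite M] {a₀ : ℕ} (h : Nat.card M = p ^ a₀) : IsPGroup p M := IsPGroup.of_card h

/-- The semidirect product is minimal non-`p`-nilpotent. -/
theorem semidirect_minimal (hpq : p ≠ q) [Finite F] [Algebra (ZMod p) F] (hμ : orderOf μ = q)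
    (hgen : Function.Surjective (aeval μ : (ZMod p)[X] → F)) [Finite M] (hM : IsPGroup p M) (hr : 1 ≤ r)
    [Finite (M ⋊[C.act hr] Multiplicative (ZMod (q ^ r)))] :
    ¬ Cfsg.HasNormalPComplement p (M ⋊[C.act hr] Multiplicative (ZMod (q ^ r))) ∧
      ∀ K : Subgroup (M ⋊[C.act hr] Multiplicative (ZMod (q ^ r))), K ≠ ⊤ →
        Cfsg.HasNormalPComplement p ↥K := by
  haveI : NeZero (q ^ r) := ⟨pow_ne_zero _ (Fact.out : q.Prime).ne_zero⟩
  have hμ1 : μ ≠ 1 := fun h => by
    rw [h, orderOf_one] at hμ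
    exact (Fact.out : q.Prime).ne_one hμ.symm
  have hcop : ∀ {n : ℕ}, n ∣ q ^ r → Nat.Coprime n p := fun {n} hn =>
    (((Nat.coprime_primes Fact.out Fact.out).2 (Ne.symm hpq)).pow_left r).coprime_dvd_left hn
  have hC : Nat.card (Multiplicative (ZMod (q ^ r))) = q ^ r := by
    rw [Nat.card_congr Multiplicative.toAdd, Nat.card_zmod]
  have hq1 : 1 < q ^ r := Nat.one_lt_pow (by omega) (Fact.out : q.Prime).one_lt
  haveI : Fact (1 < q ^ r) := ⟨hq1⟩
  set G := M ⋊[C.act hr] Multiplicative (ZMod (q ^ r)) with hG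
  refine ⟨fun h => ?_, fun K hK => ?_⟩
  · let g : G := SemidirectProduct.inr (Multiplicative.ofAdd 1)
    haveI : (SemidirectProduct.inl (φ := C.act hr)).range.Normal := by
      rw [SemidirectProduct.range_inl_eq_ker_rightHom]; infer_instance
    have hQ : IsPGroup p (SemidirectProduct.inl (φ := C.act hr)).range :=
      IsPGroup.of_surjective hM _ (MonoidHom.rangeRestrict_surjective _)
    have hg : Nat.Coprime (orderOf g) p :=
      hcop (((orderOf_map_dvd (SemidirectProduct.inr (φ := C.act hr)) (Multiplicative.ofAdd 1)).trans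
        (orderOf_dvd_natCard _)).trans hC.dvd)
    obtain ⟨m, hm⟩ := C.exists_val 1
    have h1 := Fusion.commute_of_hasNormalPComplement h hQ hg (x := SemidirectProduct.inl m) ⟨m, rfl⟩
    have h2 : C.σ m = m := by
      have h3 := congrArg SemidirectProduct.left h1
      simp only [g, SemidirectProduct.mul_left, SemidirectProduct.left_inr, SemidirectProduct.right_inr,
        SemidirectProduct.left_inl, SemidirectProduct.right_inl, one_mul, map_one, MulAut.one_apply,
        mul_one, Cover.act_apply, toAdd_ofAdd, ZMod.val_one, pow_one] at h3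
      exact h3
    have h4 := C.val_σ m
    rw [h2, hm, mul_one] at h4
    exact hμ1 h4.symm
  by_cases hk : ∃ k ∈ K, ¬ q ∣ (k.right.toAdd).val
  · obtain ⟨k, hkK, hkv⟩ := hk
    set v := (k.right.toAdd).val with hv
    let A : Subgroup M := K.comap SemidirectProduct.inl
    have hAinv : ∀ m ∈ A, k.left * (C.σ ^ v) m * k.left⁻¹ ∈ A := by
      intro m hm
      show SemidirectProduct.inl _ ∈ K
      have : k * SemidirectProduct.inl m * k⁻¹ ∈ K := mul_mem (mul_mem hkK hm) (inv_mem hkK)
      convert this using 1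
      refine SemidirectProduct.ext ?_ ?_
      · simp only [SemidirectProduct.left_inl, SemidirectProduct.mul_left, SemidirectProduct.mul_right,
          SemidirectProduct.right_inl, mul_one, SemidirectProduct.inv_left, Cover.act_apply]
        rw [hv, ← Cover.act_apply C hr, ← Cover.act_apply C hr, ← MulAut.mul_apply, ← map_mul,
          mul_inv_cancel, map_one, MulAut.one_apply]
      · simp [SemidirectProduct.mul_right]
    by_cases hAval : ∃ m ∈ A, C.val m ≠ 0
    · exfalso
      obtain ⟨m, hm, hm0⟩ := hAval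
      obtain ⟨j, hj⟩ : ∃ j : ℕ, (μ ^ v) ^ j = μ := by
        refine ⟨((v : ZMod q))⁻¹.val, ?_⟩
        have h1 : ((v * ((v : ZMod q))⁻¹.val : ℕ) : ZMod q) = ((1 : ℕ) : ZMod q) := by
          rw [Nat.cast_mul, ZMod.natCast_zmod_val, Nat.cast_one,
            mul_inv_cancel₀ (mt (ZMod.natCast_eq_zero_iff _ _).1 hkv)]
        rw [← pow_mul, ← pow_mod_orderOf, hμ, (ZMod.natCast_eq_natCast_iff' _ _ _).1 h1,
          Nat.mod_eq_of_lt (Fact.out : q.Prime).one_lt, pow_one]
      let S : AddSubgroup F :=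
        { carrier := {x | ∃ n ∈ A, C.val n = x * C.val m}
          add_mem' := fun {x y} hx hy => by
            obtain ⟨n, hn, hnx⟩ := hx
            obtain ⟨n', hn', hny⟩ := hy
            exact ⟨n * n', mul_mem hn hn', by rw [C.val_mul, hnx, hny, add_mul]⟩
          zero_mem' := ⟨1, one_mem _, by simp [Cover.val]⟩
          neg_mem' := fun {x} hx => by
            obtain ⟨n, hn, hnx⟩ := hx
            exact ⟨n⁻¹, inv_mem hn, by rw [C.val_inv, hnx, neg_mul]⟩ }
      have hstep : ∀ x ∈ S, μ ^ v * x ∈ S := by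
        rintro x ⟨n, hn, hnx⟩
        exact ⟨_, hAinv n hn, by rw [C.val_mul, C.val_mul, C.val_inv, C.val_σ_pow, hnx]; ring⟩
      have hstepj : ∀ (i : ℕ), ∀ x ∈ S, (μ ^ v) ^ i * x ∈ S := by
        intro i
        induction i with
        | zero => intro x hx; rwa [pow_zero, one_mul]
        | succ i ih => intro x hx; rw [pow_succ', mul_assoc]; exact hstep _ (ih x hx)
      have hpows : ∀ i : ℕ, μ ^ i ∈ S := by
        intro i
        induction i with
        | zero => exact ⟨m, hm, by rw [pow_zero, one_mul]⟩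
        | succ i ih => rw [pow_succ']; nth_rw 1 [← hj]; exact hstepj j _ ih
      have hA : A = ⊤ := by
        refine C.eq_top_of_map hμ1 (eq_top_iff.2 fun y _ => ?_)
        obtain ⟨n, hn, hny⟩ := span_powers hgen S hpows (y.toAdd / C.val m)
        rw [div_mul_cancel₀ _ hm0] at hny
        exact ⟨n, hn, Multiplicative.toAdd.injective hny⟩
      apply hK
      rw [eq_top_iff]
      intro g _
      obtain ⟨j', hj'⟩ : ∃ n : ℕ, k.right ^ n = g.right := by
        refine ⟨(g.right.toAdd * k.right.toAdd⁻¹).val, Multiplicative.toAdd.injective ?_⟩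
        have hu : IsUnit (k.right.toAdd) := by
          rw [← ZMod.natCast_zmod_val k.right.toAdd, ZMod.isUnit_iff_coprime]
          exact (((Fact.out : q.Prime).coprime_iff_not_dvd.2 hkv).symm).pow_right r
        rw [toAdd_pow, nsmul_eq_mul, ZMod.natCast_zmod_val, mul_assoc, ZMod.inv_mul_of_unit _ hu, mul_one]
      have hgk : g * (k ^ j')⁻¹ ∈ (SemidirectProduct.inl (φ := C.act hr)).range := by
        rw [SemidirectProduct.range_inl_eq_ker_rightHom, MonoidHom.mem_ker, map_mul, map_inv, map_pow]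
        show g.right * (k.right ^ j')⁻¹ = 1
        rw [hj', mul_inv_cancel]
      obtain ⟨n, hn⟩ := hgk
      have h1 : g * (k ^ j')⁻¹ ∈ K := hn ▸ (hA ▸ Subgroup.mem_top n : n ∈ A)
      simpa using mul_mem h1 (pow_mem hkK j')
    · push Not at hAval
      have hcen : ((SemidirectProduct.rightHom (φ := C.act hr)).comp K.subtype).ker ≤ Subgroup.center K := by
        intro x hx
        rw [MonoidHom.mem_ker] at hx
        have hx1 : (x : G).right = 1 := hx
        have hxA : (x : G).left ∈ A := by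
          show SemidirectProduct.inl _ ∈ K
          convert x.2 using 1
          exact SemidirectProduct.ext rfl hx1.symm
        have hxk : (x : G).left ∈ C.π.ker := C.mem_ker.2 (hAval _ hxA)
        refine Subgroup.mem_center_iff.2 fun y => Subtype.ext (SemidirectProduct.ext ?_ ?_)
        · show (y : G).left * (C.act hr (y : G).right) (x : G).left
            = (x : G).left * (C.act hr (x : G).right) (y : G).left
          have hfix : ∀ i : ℕ, (C.σ ^ i) (x : G).left = (x : G).left := fun i => by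
            induction i with
            | zero => rfl
            | succ i ih => rw [pow_succ', MulAut.mul_apply, ih, C.fix _ hxk]
          rw [hx1, map_one, MulAut.one_apply, C.act_apply, hfix]
          exact Subgroup.mem_center_iff.1 (C.central hxk) _
        · exact mul_comm _ _
      have hcomm : ∀ a b : K, a * b = b * a :=
        fun a b => commutative_of_cyclic_center_quotient _ hcen a b
      exact Fusion.hasNormalPComplement_of_normalizer_le_centralizer default fun a _ =>
        Subgroup.mem_centralizer_iff.2 fun b _ => hcomm b a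
  · push Not at hk
    have hact : ∀ k ∈ K, C.act hr k.right = 1 := fun k hkK => by
      obtain ⟨c, hc⟩ := hk k hkK
      rw [C.act_apply, hc, pow_mul, C.pow_q, one_pow]
    let f : K →* M := MonoidHom.mk' (fun x => (x : G).left) fun x y => by
      show (x : G).left * (C.act hr (x : G).right) (y : G).left = _
      rw [hact _ x.2, MulAut.one_apply]
    refine Fusion.hasNormalPComplement_of_quotient (N := f.ker) ?_ ?_
    · intro hd
      let e : f.ker →* Multiplicative (ZMod (q ^ r)) :=
        ((SemidirectProduct.rightHom (φ := C.act hr)).comp K.subtype).comp f.ker.subtype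
      have he : Function.Injective e := fun x y hxy => Subtype.ext (Subtype.ext (SemidirectProduct.ext
        ((MonoidHom.mem_ker.1 x.2).trans (MonoidHom.mem_ker.1 y.2).symm) hxy))
      exact ((Fact.out : p.Prime).coprime_iff_not_dvd.1 (hcop ((Subgroup.card_dvd_of_injective e he).trans hC.dvd)).symm) hd
    · exact (hM.to_subgroup f.range).of_equiv (QuotientGroup.quotientKerEquivRange f).symm

end Semidirect

/-- A cover of largest order maps onto every cover. -/
theorem exists_surjective_hom [Finite F] [Algebra (ZMod p) F] (hpq : p ≠ q) (hμ : orderOf μ = q) {a a₀ : ℕ}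
    (ha : a = orderOf (p : ZMod q)) (ha₀ : a₀ = if a % 2 = 1 then a else 3 * a / 2) (hF : Nat.card F = p ^ a)
    {M : Type v} [Group M] [Finite M] (C : Cover q μ M) (hM : Nat.card M = p ^ a₀)
    {M' : Type w} [Group M'] [Finite M'] (C' : Cover q μ M') :
    ∃ h : M →* M', Function.Surjective h ∧ (∀ m, h (C.σ m) = C'.σ (h m)) ∧ ∀ m, C'.val (h m) = C.val m := by
  classical
  let τ : MulAut (M × M') := MulEquiv.prodCongr C.σ C'.σ
  have hτ : ∀ (i : ℕ) (x : M × M'), (τ ^ i) x = ((C.σ ^ i) x.1, (C'.σ ^ i) x.2) := fun i x => by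
    induction i with
    | zero => rfl
    | succ i ih => rw [pow_succ', MulAut.mul_apply, ih, pow_succ', pow_succ']; rfl
  let Good : Subgroup (M × M') → Prop := fun S => (∀ x ∈ S, C.val x.1 = C'.val x.2) ∧ (∀ x ∈ S, τ x ∈ S) ∧
    ∀ y : F, ∃ x ∈ S, C.val x.1 = y
  let R : Subgroup (M × M') :=
    { carrier := {x | C.val x.1 = C'.val x.2}
      mul_mem' := fun {x y} hx hy => by
        show C.val (x.1 * y.1) = C'.val (x.2 * y.2)
        rw [C.val_mul, C'.val_mul, hx, hy]
      one_mem' := by simp [Cover.val]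
      inv_mem' := fun {x} hx => by
        show C.val x.1⁻¹ = C'.val x.2⁻¹
        rw [C.val_inv, C'.val_inv, hx] }
  have hR : Good R := ⟨fun x hx => hx, fun x hx => by
      show C.val (C.σ x.1) = C'.val (C'.σ x.2)
      rw [C.val_σ, C'.val_σ, hx], fun y => by
      obtain ⟨m, hm⟩ := C.exists_val y
      obtain ⟨m', hm'⟩ := C'.exists_val y
      exact ⟨(m, m'), hm.trans hm'.symm, hm⟩⟩
  obtain ⟨S, hS, hSmin⟩ := (Set.toFinite {S | Good S}).exists_minimal ⟨R, hR⟩
  obtain ⟨hSR, hSinv, hSsurj⟩ := hS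
  let σS : MulAut S :=
    MulEquiv.ofBijective
      (MonoidHom.mk' (fun x : S => (⟨τ x, hSinv _ x.2⟩ : S)) fun x y => Subtype.ext (map_mul τ _ _))
      (Finite.injective_iff_bijective.1 fun x y h => Subtype.ext (τ.injective (congrArg Subtype.val h)))
  have hσS : ∀ (i : ℕ) (x : S), ((σS ^ i) x : M × M') = (τ ^ i) x := fun i x => by
    induction i with
    | zero => rfl
    | succ i ih => rw [pow_succ', MulAut.mul_apply, pow_succ', MulAut.mul_apply, ← ih]; rfl
  let πS : S →* Multiplicative F := (C.π.comp (MonoidHom.fst M M')).comp S.subtype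
  have hker : ∀ x ∈ πS.ker, (x : M × M').1 ∈ C.π.ker ∧ (x : M × M').2 ∈ C'.π.ker := fun x hx => by
    have h1 : (x : M × M').1 ∈ C.π.ker := hx
    exact ⟨h1, C'.mem_ker.2 ((hSR _ x.2).symm.trans (C.mem_ker.1 h1))⟩
  let CS : Cover q μ S :=
    { σ := σS
      π := πS
      surj := fun y => by
        obtain ⟨x, hx, hxy⟩ := hSsurj y.toAdd
        exact ⟨⟨x, hx⟩, Multiplicative.toAdd.injective hxy⟩
      comm := fun x => C.comm _
      pow_q := MulEquiv.ext fun x => Subtype.ext (by rw [hσS, hτ, C.pow_q, C'.pow_q]; rfl)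
      central := fun x hx => Subgroup.mem_center_iff.2 fun y => Subtype.ext (Prod.ext
        (Subgroup.mem_center_iff.1 (C.central (hker x hx).1) _)
        (Subgroup.mem_center_iff.1 (C'.central (hker x hx).2) _))
      fix := fun x hx => Subtype.ext (Prod.ext (C.fix _ (hker x hx).1) (C'.fix _ (hker x hx).2))
      min := fun N hN hmap => by
        have hle : N.map S.subtype ≤ S := Subgroup.map_subtype_le N
        have hgood : Good (N.map S.subtype) := by
          refine ⟨fun x hx => hSR x (hle hx), ?_, fun y => ?_⟩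
          · rintro _ ⟨x, hx, rfl⟩
            exact ⟨σS x, hN x hx, rfl⟩
          · obtain ⟨x, hx, hxy⟩ : Multiplicative.ofAdd y ∈ N.map πS := hmap ▸ Subgroup.mem_top _
            exact ⟨_, ⟨x, hx, rfl⟩, congrArg Multiplicative.toAdd hxy⟩
        rw [eq_top_iff]
        intro x _
        obtain ⟨y, hy, hyx⟩ := hSmin hgood hle x.2
        rwa [← Subtype.ext hyx] }
  have hcard : Nat.card S ≤ Nat.card M := hM ▸ card_le hpq hμ ha ha₀ hF CS
  let f1 : S →* M := (MonoidHom.fst M M').comp S.subtype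
  let f2 : S →* M' := (MonoidHom.snd M M').comp S.subtype
  have h1 : Function.Surjective f1 := by
    rw [← MonoidHom.range_eq_top]
    refine C.min _ (fun m hm => ?_) (eq_top_iff.2 fun y _ => ?_)
    · obtain ⟨x, rfl⟩ := hm
      exact ⟨σS x, rfl⟩
    · obtain ⟨x, hx, hxy⟩ := hSsurj y.toAdd
      exact ⟨_, ⟨⟨x, hx⟩, rfl⟩, Multiplicative.toAdd.injective hxy⟩
  have h2 : Function.Surjective f2 := by
    rw [← MonoidHom.range_eq_top]
    refine C'.min _ (fun m hm => ?_) (eq_top_iff.2 fun y _ => ?_)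
    · obtain ⟨x, rfl⟩ := hm
      exact ⟨σS x, rfl⟩
    · obtain ⟨x, hx, hxy⟩ := hSsurj y.toAdd
      exact ⟨_, ⟨⟨x, hx⟩, rfl⟩, Multiplicative.toAdd.injective ((hSR x hx).symm.trans hxy)⟩
  have hb : Function.Bijective f1 := (Nat.bijective_iff_surjective_and_card _).2
    ⟨h1, le_antisymm hcard (Nat.card_le_card_of_surjective f1 h1)⟩
  let e : S ≃* M := MulEquiv.ofBijective f1 hb
  have he : ∀ m, ((e.symm m : S) : M × M').1 = m := fun m => e.apply_symm_apply m
  refine ⟨f2.comp e.symm.toMonoidHom, h2.comp e.symm.surjective, fun m => ?_, fun m => ?_⟩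
  · have : e.symm (C.σ m) = σS (e.symm m) := by
      rw [MulEquiv.symm_apply_eq]
      exact (congrArg C.σ (he m)).symm
    show ((e.symm (C.σ m) : S) : M × M').2 = _
    rw [this]
    rfl
  · show C'.val ((e.symm m : S) : M × M').2 = _
    rw [← hSR _ (e.symm m).2, he]

/-- Elements of order prime to `p` in a proper subgroup centralize its normal `p`-subgroups. -/
theorem commute_of_proper {X : Type*} [Group X] [Finite X]
    (hX : ∀ K : Subgroup X, K ≠ ⊤ → Cfsg.HasNormalPComplement p ↥K) {K N : Subgroup X} (hK : K ≠ ⊤)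
    (hN : IsPGroup p N) (hNK : N ≤ K) (hnorm : K ≤ Subgroup.normalizer (N : Set X)) {g x : X} (hg : g ∈ K)
    (hgp : Nat.Coprime (orderOf g) p) (hx : x ∈ N) : g * x = x * g := by
  haveI : (N.subgroupOf K).Normal := (Subgroup.normal_subgroupOf_iff_le_normalizer hNK).2 hnorm
  exact congrArg Subtype.val (Fusion.commute_of_hasNormalPComplement (hX K hK)
    (Q := N.subgroupOf K) (hN.of_equiv (Subgroup.subgroupOfEquivOfLe hNK).symm) (g := ⟨g, hg⟩)
    (by rwa [Subgroup.orderOf_mk]) (x := ⟨x, hNK hx⟩) hx)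

/-- A minimal non-`p`-nilpotent group of order `p ^ t * q ^ r` carries a cover. -/
theorem exists_cover_of_minimal (hpq : p ≠ q) [Algebra (ZMod p) F] (hμ : orderOf μ = q)
    (hgen : Function.Surjective (aeval μ : (ZMod p)[X] → F)) {r t : ℕ} (hr : 1 ≤ r) {X : Type w} [Group X]
    [Finite X] (hX : ¬ Cfsg.HasNormalPComplement p X ∧ ∀ K : Subgroup X, K ≠ ⊤ → Cfsg.HasNormalPComplement p ↥K)
    (hcard : Nat.card X = p ^ t * q ^ r) :
    ∃ (P : Subgroup X) (_ : P.Normal) (u : X) (C : Cover q μ ↥P), IsPGroup p P ∧ orderOf u = q ^ r ∧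
      (∀ x : X, ∃ k : ℕ, ∃ y ∈ P, x = y * u ^ k) ∧ C.σ = MulAut.conjNormal u := by
  classical
  haveI : NeZero (q ^ r) := ⟨pow_ne_zero _ (Fact.out : q.Prime).ne_zero⟩
  let P0 : Sylow p X := default
  let Q0 : Sylow q X := default
  haveI hPn : (P0 : Subgroup X).Normal := (Cfsg.Agent.S0132.result hX.1 hX.2).2.2 P0
  have hcop : Nat.Coprime (p ^ t) (q ^ r) :=
    ((Nat.coprime_primes Fact.out Fact.out).2 hpq).pow _ _
  have hP : Nat.card (P0 : Subgroup X) = p ^ t := by
    rw [P0.card_eq_multiplicity, hcard,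
      Nat.factorization_mul (pow_ne_zero _ (Fact.out : p.Prime).ne_zero) (NeZero.ne _),
      Finsupp.add_apply, (Fact.out : p.Prime).factorization_pow, (Fact.out : q.Prime).factorization_pow,
      Finsupp.single_eq_same, Finsupp.single_eq_of_ne hpq, add_zero]
  have hQ : Nat.card (Q0 : Subgroup X) = q ^ r := by
    rw [Q0.card_eq_multiplicity, hcard,
      Nat.factorization_mul (pow_ne_zero _ (Fact.out : p.Prime).ne_zero) (NeZero.ne _),
      Finsupp.add_apply, (Fact.out : p.Prime).factorization_pow, (Fact.out : q.Prime).factorization_pow,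
      Finsupp.single_eq_same, Finsupp.single_eq_of_ne hpq.symm, zero_add]
  set P : Subgroup X := (P0 : Subgroup X)
  have hPp : IsPGroup p P := P0.isPGroup'
  have hQp : ∀ g ∈ (Q0 : Subgroup X), Nat.Coprime (orderOf g) p := fun g hg =>
    ((((Nat.coprime_primes Fact.out Fact.out).2 (Ne.symm hpq)).pow_left r).coprime_dvd_left
      (hQ ▸ Subgroup.orderOf_dvd_natCard _ hg))
  have hnorm : ∀ K : Subgroup X, K ≤ Subgroup.normalizer (P : Set X) := fun K => by
    rw [Subgroup.normalizer_eq_top]; exact le_top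
  -- an element of the complement acting non-trivially
  obtain ⟨u, hu, huP⟩ : ∃ u ∈ (Q0 : Subgroup X), ∃ x ∈ P, u * x ≠ x * u := by
    by_contra hall
    push Not at hall
    apply hX.1
    have htop : P ⊔ (Q0 : Subgroup X) = ⊤ := by
      refine Subgroup.eq_top_of_le_card _ ?_
      rw [hcard]
      exact Nat.le_of_dvd Nat.card_pos (hcop.mul_dvd_of_dvd_of_dvd
        (hP ▸ Subgroup.card_dvd_of_le le_sup_left) (hQ ▸ Subgroup.card_dvd_of_le le_sup_right))
    refine ⟨P0, Q0, ?_, Subgroup.isComplement'_of_coprime (by rw [hP, hQ, hcard, mul_comm])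
      (by rw [hP, hQ]; exact hcop.symm)⟩
    refine ⟨fun n hn g => ?_⟩
    have hg : g ∈ Subgroup.normalizer ((Q0 : Subgroup X) : Set X) := by
      have hle : P ⊔ (Q0 : Subgroup X) ≤ Subgroup.normalizer ((Q0 : Subgroup X) : Set X) := by
        refine sup_le (fun x hx => ?_) Subgroup.le_normalizer
        refine Subgroup.mem_normalizer_iff.2 fun y => ⟨fun hy => ?_, fun hy => ?_⟩
        · rw [← hall y hy x hx, mul_inv_cancel_right]; exact hy
        · have h1 := hall _ hy x hx
          rw [inv_mul_cancel_right] at h1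
          rwa [← mul_left_cancel h1] at hy
      exact hle (htop ▸ Subgroup.mem_top g)
    exact (Subgroup.mem_normalizer_iff.1 hg n).1 hn
  have hcosets : ∀ (u' : X), Subgroup.zpowers u' ⊔ P = ⊤ → ∀ x : X, ∃ k : ℕ, ∃ y ∈ P, x = y * u' ^ k := by
    intro u' htop x
    have hx : x ∈ P ⊔ Subgroup.zpowers u' := by rw [sup_comm, htop]; exact Subgroup.mem_top x
    obtain ⟨y, hy, z, hz, rfl⟩ := Subgroup.mem_sup_of_normal_left.1 hx
    obtain ⟨k, rfl⟩ := mem_powers_iff_mem_zpowers.2 hz
    exact ⟨k, y, hy, rfl⟩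
  have htop : Subgroup.zpowers u ⊔ P = ⊤ := by
    by_contra hne
    obtain ⟨x, hx, hxu⟩ := huP
    exact hxu (commute_of_proper hX.2 hne hPp le_sup_right (hnorm _)
      (Subgroup.mem_sup_left (Subgroup.mem_zpowers u)) (hQp u hu) hx)
  have horder : ∀ u' : X, u' ∈ (Q0 : Subgroup X) → Subgroup.zpowers u' ⊔ P = ⊤ → orderOf u' = q ^ r := by
    intro u' hu' ht
    refine le_antisymm (Nat.le_of_dvd (pow_pos (Fact.out : q.Prime).pos r)
      (hQ ▸ Subgroup.orderOf_dvd_natCard _ hu')) ?_
    refine Nat.le_of_mul_le_mul_left ?_ (pow_pos (Fact.out : p.Prime).pos t)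
    rw [← hcard, ← Nat.card_zpowers u', ← hP, ← Nat.card_prod]
    refine Nat.card_le_card_of_surjective (fun yz => (yz.1 : X) * (yz.2 : X)) fun x => ?_
    obtain ⟨k, y, hy, rfl⟩ := hcosets u' ht x
    exact ⟨(⟨y, hy⟩, ⟨u' ^ k, Subgroup.npow_mem_zpowers u' k⟩), rfl⟩
  have huo := horder u hu htop
  let σ : MulAut P := MulAut.conjNormal u
  have hσ : ∀ x : P, (σ x : X) = u * x * u⁻¹ := fun x => MulAut.conjNormal_apply u x
  have hσq : σ ^ q = 1 := by
    have hne : Subgroup.zpowers (u ^ q) ⊔ P ≠ ⊤ := fun ht => by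
      have h1 := horder _ (pow_mem hu q) ht
      rw [orderOf_pow, huo, Nat.gcd_eq_right (dvd_pow_self q (by omega))] at h1
      exact absurd h1 (Nat.ne_of_lt (Nat.div_lt_self (pow_pos (Fact.out : q.Prime).pos r)
        (Fact.out : q.Prime).one_lt))
    refine MulEquiv.ext fun x => Subtype.ext ?_
    show ((MulAut.conjNormal u ^ q : MulAut P) x : X) = x
    rw [← map_pow, MulAut.conjNormal_apply, commute_of_proper hX.2 hne hPp le_sup_right (hnorm _)
      (Subgroup.mem_sup_left (Subgroup.mem_zpowers _)) (hQp _ (pow_mem hu q)) x.2, mul_inv_cancel_right]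
  have hσ1 : σ ≠ 1 := fun h => by
    obtain ⟨x, hx, hxu⟩ := huP
    have h1 := hσ ⟨x, hx⟩
    rw [h, MulAut.one_apply] at h1
    exact hxu (eq_mul_inv_iff_mul_eq.1 h1).symm
  have hfix : ∀ N : Subgroup P, N ≠ ⊤ → (∀ x ∈ N, σ x ∈ N) → ∀ x ∈ N, σ x = x := by
    intro N hN hinv x hx
    let N' : Subgroup X := N.map P.subtype
    have hnormu : u ∈ Subgroup.normalizer (N' : Set X) := by
      refine Subgroup.mem_normalizer_iff.2 fun y => ⟨?_, fun hy => ?_⟩
      · rintro ⟨z, hz, rfl⟩
        exact ⟨σ z, hinv z hz, hσ z⟩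
      · obtain ⟨z, hz, hzy⟩ := hy
        have hback : ∀ k : ℕ, (σ ^ k) z ∈ N := fun k => pow_mem_of_invariant hinv k z hz
        refine ⟨(σ ^ (q - 1)) z, hback _, ?_⟩
        have h1 : σ ((σ ^ (q - 1)) z) = z := by
          rw [← MulAut.mul_apply, ← pow_succ', Nat.sub_add_cancel (Fact.out : q.Prime).pos, hσq]
          rfl
        have h2 := congrArg Subtype.val h1
        rw [hσ] at h2
        exact mul_left_cancel (mul_right_cancel (h2.trans hzy))
    have hle : Subgroup.zpowers u ⊔ N' ≤ Subgroup.normalizer (N' : Set X) :=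
      sup_le (Subgroup.zpowers_le.2 hnormu) Subgroup.le_normalizer
    have hne : Subgroup.zpowers u ⊔ N' ≠ ⊤ := fun ht => hN (eq_top_iff.2 fun y _ => by
      haveI : N'.Normal := Subgroup.normalizer_eq_top_iff.1 (eq_top_iff.2 (ht ▸ hle))
      have hyN : (y : X) ∈ N' ⊔ Subgroup.zpowers u := by rw [sup_comm, ht]; exact Subgroup.mem_top _
      obtain ⟨n, hn, z, hz, hnz⟩ := Subgroup.mem_sup_of_normal_left.1 hyN
      have hzQ : z ∈ (Q0 : Subgroup X) := Subgroup.zpowers_le.2 hu hz
      have hzP : z ∈ P := by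
        rw [← inv_mul_cancel_left n z, hnz]
        exact mul_mem (inv_mem (Subgroup.map_subtype_le N hn)) y.2
      have hz1 : z = 1 := Subgroup.mem_bot.1
        ((Subgroup.inf_eq_bot_of_coprime (show Nat.Coprime (Nat.card P) (Nat.card (Q0 : Subgroup X)) by
          rw [hP, hQ]; exact hcop)) ▸ Subgroup.mem_inf.2 ⟨hzP, hzQ⟩)
      obtain ⟨n', hn', rfl⟩ := hn
      rw [hz1, mul_one] at hnz
      rwa [← Subtype.ext hnz])
    refine Subtype.ext ?_
    rw [hσ, commute_of_proper hX.2 hne (hPp.to_le (Subgroup.map_subtype_le N)) le_sup_right hle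
      (Subgroup.mem_sup_left (Subgroup.mem_zpowers u)) (hQp u hu) (x := (x : X)) ⟨x, hx, rfl⟩,
      mul_inv_cancel_right]
  obtain ⟨i, hiq, C, hC⟩ := exists_cover_of_aut hpq hPp σ hσq hσ1 hfix hμ hgen
  have hui : orderOf (u ^ i) = q ^ r := by
    rw [Nat.Coprime.orderOf_pow, huo]
    rw [huo]
    exact (((Fact.out : q.Prime).coprime_iff_not_dvd.2 hiq).pow_left r)
  refine ⟨P, hPn, u ^ i, C, hPp, hui, hcosets _ ?_, ?_⟩
  · have : Subgroup.zpowers (u ^ i) = Subgroup.zpowers u :=
      Subgroup.eq_of_le_of_card_ge (Subgroup.zpowers_le.2 (Subgroup.npow_mem_zpowers u i))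
        (by rw [Nat.card_zpowers, Nat.card_zpowers, hui, huo])
    rw [this, htop]
  · rw [hC, map_pow]

end Cfsg.Agent.Schmidt
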