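import Cfsg.Agent.Schmidt.Cover

/-!
The order of a cover is at most `p ^ a₀`, and covers of that order exist.
-/

set_option autoImplicit false

namespace Cfsg.Agent.Schmidt

open Polynomial
open scoped commutatorElement

section Comm

variable {M : Type*} [Group M] {x y y' z : M}

theorem comm_mul_right' (h : ⁅x, y'⁆ ∈ Subgroup.center M) : ⁅x, y * y'⁆ = ⁅x, y⁆ * ⁅x, y'⁆ := by
  have h1 : y * ⁅x, y'⁆ * y⁻¹ = ⁅x, y'⁆ := by rw [Subgroup.mem_center_iff.1 h y, mul_inv_cancel_right]
  calc ⁅x, y * y'⁆ = ⁅x, y⁆ * (y * ⁅x, y'⁆ * y⁻¹) := by simp only [commutatorElement_def]; group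
    _ = _ := by rw [h1]

theorem comm_mul_left' (h : ⁅y, z⁆ ∈ Subgroup.center M) : ⁅x * y, z⁆ = ⁅y, z⁆ * ⁅x, z⁆ := by
  have h1 : x * ⁅y, z⁆ * x⁻¹ = ⁅y, z⁆ := by rw [Subgroup.mem_center_iff.1 h x, mul_inv_cancel_right]
  calc ⁅x * y, z⁆ = (x * ⁅y, z⁆ * x⁻¹) * ⁅x, z⁆ := by simp only [commutatorElement_def]; group
    _ = _ := by rw [h1]

end Comm

variable {p : ℕ} [Fact p.Prime] {q : ℕ} [Fact q.Prime] {F : Type*} [Field F] [Finite F]
  [Algebra (ZMod p) F] {μ : F} {M : Type*} [Group M] [Finite M]

omit [Fact p.Prime] [Algebra (ZMod p) F] in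
theorem ne_one_of_orderOf (hμ : orderOf μ = q) : μ ≠ 1 := fun h => by
  rw [h, orderOf_one] at hμ
  exact (Fact.out : q.Prime).ne_one hμ.symm

theorem orderOf_natCast_ne_zero (hpq : p ≠ q) : orderOf (p : ZMod q) ≠ 0 := by
  have hne : (p : ZMod q) ≠ 0 := fun h =>
    hpq ((Nat.prime_dvd_prime_iff_eq Fact.out Fact.out).1 ((ZMod.natCast_eq_zero_iff _ _).1 h)).symm
  exact fun h => by
    have h1 := ZMod.pow_card_sub_one_eq_one hne
    have h2 := (Fact.out : q.Prime).two_le
    have h3 := orderOf_dvd_of_pow_eq_one h1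
    rw [h, zero_dvd_iff] at h3
    omega

omit [Fact q.Prime] in
/-- The semilinear map `x ↦ x + x ^ (p ^ b)` of the field with `p ^ (2 b)` elements. -/
theorem card_ker_trace {b : ℕ} (hb : b ≠ 0) (hF : Nat.card F = p ^ (2 * b)) (T D : F →+ F)
    (hT : ∀ x, T x = x + x ^ p ^ b) (hD : ∀ x, D x = x ^ p ^ b - x) :
    Nat.card T.ker = p ^ b ∧ Nat.card T.range = p ^ b ∧ T.ker ≤ D.range ∧ D.ker ≤ T.range := by
  have hn : 1 < p ^ b := Nat.one_lt_pow hb (Fact.out : p.Prime).one_lt
  letI : Fintype F := Fintype.ofFinite F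
  haveI : CharP F p := charP_of_injective_algebraMap (algebraMap (ZMod p) F).injective p
  have hqq : ∀ x : F, (x ^ p ^ b) ^ p ^ b = x := fun x => by
    rw [← pow_mul, ← pow_add, ← two_mul, ← hF, Nat.card_eq_fintype_card, FiniteField.pow_card]
  have hTD : T.range ≤ D.ker := by
    rintro _ ⟨x, rfl⟩
    rw [AddMonoidHom.mem_ker, hD, hT, add_pow_char_pow, hqq]
    ring
  have hDT : D.range ≤ T.ker := by
    rintro _ ⟨x, rfl⟩
    rw [AddMonoidHom.mem_ker, hT, hD, sub_pow_char_pow, hqq]
    ring
  have hkT : Nat.card T.ker ≤ p ^ b := le_trans (Nat.card_le_card_of_injective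
    (fun x : T.ker => (⟨x.1, by rw [one_mul, add_comm, ← hT]; exact x.2⟩ :
      {y : F // y ^ p ^ b + 1 * y = 0}))
    fun x y h => Subtype.ext (congrArg (fun z : {y : F // y ^ p ^ b + 1 * y = 0} => (z : F)) h))
    (card_roots_le hn 1)
  have hkD : Nat.card D.ker ≤ p ^ b := le_trans (Nat.card_le_card_of_injective
    (fun x : D.ker => (⟨x.1, by rw [neg_one_mul, ← sub_eq_add_neg, ← hD]; exact x.2⟩ :
      {y : F // y ^ p ^ b + (-1) * y = 0}))
    fun x y h => Subtype.ext (congrArg (fun z : {y : F // y ^ p ^ b + (-1) * y = 0} => (z : F)) h))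
    (card_roots_le hn (-1))
  have hprod : ∀ f : F →+ F, Nat.card f.ker * Nat.card f.range = p ^ b * p ^ b := fun f => by
    rw [← pow_add, ← two_mul, ← hF, AddSubgroup.card_eq_card_quotient_mul_card_addSubgroup f.ker,
      Nat.card_congr (QuotientAddGroup.quotientKerEquivRange f).toEquiv, mul_comm]
  have hrT : Nat.card T.range ≤ p ^ b := (AddSubgroup.card_le_of_le hTD).trans hkD
  have hrD : Nat.card D.range ≤ p ^ b := (AddSubgroup.card_le_of_le hDT).trans hkT
  have e1 : Nat.card T.ker = p ^ b := by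
    refine le_antisymm hkT (Nat.le_of_mul_le_mul_right ?_ (Nat.pos_of_ne_zero (by omega) : 0 < p ^ b))
    rw [← hprod T]; exact Nat.mul_le_mul_left _ hrT
  have e2 : Nat.card T.range = p ^ b := by
    have := hprod T; rw [e1] at this; exact Nat.eq_of_mul_eq_mul_left (by omega) this
  have e3 : p ^ b ≤ Nat.card D.range := by
    refine Nat.le_of_mul_le_mul_left ?_ (Nat.pos_of_ne_zero (by omega) : 0 < p ^ b)
    rw [← hprod D]; exact Nat.mul_le_mul_right _ hkD
  exact ⟨e1, e2, (AddSubgroup.eq_of_le_of_card_ge hDT (e1 ▸ e3)).ge,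
    (AddSubgroup.eq_of_le_of_card_ge hTD (e2 ▸ hkD)).ge⟩

/-- The order of a cover. -/
theorem card_le (hpq : p ≠ q) (hμ : orderOf μ = q) {a a₀ : ℕ} (ha : a = orderOf (p : ZMod q))
    (ha₀ : a₀ = if a % 2 = 1 then a else 3 * a / 2) (hF : Nat.card F = p ^ a) (C : Cover q μ M) :
    Nat.card M ≤ p ^ a₀ := by
  have hμ1 := ne_one_of_orderOf hμ
  have hgen := surjective_aeval (p := p) hpq hμ (ha ▸ hF)
  have hμq : μ ^ q = 1 := hμ ▸ pow_orderOf_eq_one μ
  have hqpos := (Fact.out : q.Prime).pos
  have hk : ∀ x y : M, ⁅x, y⁆ ∈ C.π.ker := fun x y => by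
    rw [MonoidHom.mem_ker, map_commutatorElement, commutatorElement_eq_one_iff_mul_comm, mul_comm]
  have hc : ∀ x y : M, ⁅x, y⁆ ∈ Subgroup.center M := fun x y => C.central (hk x y)
  have hinv : ∀ (i : ℕ) (x y : M), ⁅(C.σ ^ i) x, (C.σ ^ i) y⁆ = ⁅x, y⁆ := by
    intro i x y
    induction i with
    | zero => simp
    | succ i ih =>
      rw [pow_succ', MulAut.mul_apply, MulAut.mul_apply, ← map_commutatorElement, ih]
      exact C.fix _ (hk x y)
  have hval : ∀ {x x' : M}, C.val x = C.val x' → x⁻¹ * x' ∈ Subgroup.center M := fun {x x'} h =>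
    C.central (C.mem_ker.2 (by rw [C.val_mul, C.val_inv, h, neg_add_cancel]))
  have hl : ∀ x x' y : M, C.val x = C.val x' → ⁅x, y⁆ = ⁅x', y⁆ := by
    intro x x' y h
    have h1 : ⁅x⁻¹ * x', y⁆ = 1 := commutatorElement_eq_one_iff_mul_comm.2
      (Subgroup.mem_center_iff.1 (hval h) y).symm
    conv_rhs => rw [← mul_inv_cancel_left x x', comm_mul_left' (hc _ _), h1, one_mul]
  have hr : ∀ x y y' : M, C.val y = C.val y' → ⁅x, y⁆ = ⁅x, y'⁆ := by
    intro x y y' h
    rw [← commutatorElement_inv, hl y y' x h, commutatorElement_inv]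
  choose s hs using C.exists_val
  set e := s 1
  let f : F →+ Additive (Subgroup.center M) :=
    AddMonoidHom.mk' (fun t => Additive.ofMul ⟨⁅e, s t⁆, hc _ _⟩) fun t t' => by
      apply Additive.toMul.injective
      apply Subtype.ext
      show ⁅e, s (t + t')⁆ = ⁅e, s t⁆ * ⁅e, s t'⁆
      rw [← comm_mul_right' (hc _ _)]
      exact hr _ _ _ (by rw [C.val_mul, hs, hs, hs])
  have hf : ∀ x : M, ((f (C.val x)).toMul : M) = ⁅e, x⁆ := fun x => hr _ _ _ (hs _)
  let Rf : Subgroup M := (AddSubgroup.toSubgroup' f.range).map (Subgroup.center M).subtype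
  have hRf : ∀ x y : M, ⁅x, y⁆ ∈ Rf := by
    let S : AddSubgroup F :=
      { carrier := {t | ∀ x y : M, C.val x = t → ⁅x, y⁆ ∈ Rf}
        add_mem' := fun {t t'} ht ht' x y hx => by
          rw [hl x (s t * s t') y (by rw [C.val_mul, hs, hs, hx]), comm_mul_left' (hc _ _)]
          exact mul_mem (ht' _ _ (hs _)) (ht _ _ (hs _))
        zero_mem' := fun x y hx => by
          have : ⁅x, y⁆ = 1 := commutatorElement_eq_one_iff_mul_comm.2
            (Subgroup.mem_center_iff.1 (C.central (C.mem_ker.2 hx)) y).symm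
          rw [this]; exact one_mem _
        neg_mem' := fun {t} ht x y hx => by
          have h1 := comm_mul_left' (x := x) (y := s t) (z := y) (hc _ _)
          rw [hl (x * s t) 1 y (by rw [C.val_mul, hs, hx, neg_add_cancel]; simp [Cover.val]),
            commutatorElement_one_left] at h1
          rw [eq_inv_of_mul_eq_one_right h1.symm]
          exact inv_mem (ht _ _ (hs _)) }
    intro x y
    refine span_powers hgen S (fun i x y hx => ?_) (C.val x) x y rfl
    rw [hl x ((C.σ ^ i) e) y (by rw [C.val_σ_pow, hs, mul_one, hx]),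
      ← (C.σ ^ i).apply_symm_apply y, hinv]
    exact ⟨_, ⟨C.val _, rfl⟩, hf _⟩
  have hker : Nat.card C.π.ker ≤ Nat.card f.range := by
    have h1 : C.π.ker ≤ Rf := (C.ker_le_commutator hμ1).trans
      (by rw [commutator_def, Subgroup.commutator_le]; exact fun x _ y _ => hRf x y)
    refine (Subgroup.card_le_of_le h1).trans (le_of_eq ?_)
    rw [Subgroup.card_map_of_injective (Subgroup.subtype_injective _)]
    rfl
  have hM : Nat.card M = p ^ a * Nat.card C.π.ker := by
    rw [Subgroup.card_eq_card_quotient_mul_card_subgroup C.π.ker,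
      Nat.card_congr (QuotientGroup.quotientKerEquivOfSurjective C.π C.surj).toEquiv]
    exact congrArg (· * _) hF
  -- the symmetry
  set ν := μ ^ (q - 1) with hν
  have hνμ : ν * μ = 1 := by rw [hν, ← pow_succ, Nat.sub_add_cancel hqpos, hμq]
  have hanti : ∀ g : (ZMod p)[X], f (aeval ν g) = - f (aeval μ g) := by
    intro g
    induction g using Polynomial.induction_on' with
    | add g g' hg hg' =>
      simp only [map_add, hg, hg']
      rw [← map_add f (aeval μ g), add_comm (aeval μ g), map_add, neg_add_rev]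
    | monomial n c =>
      rw [aeval_monomial, aeval_monomial, ← Algebra.smul_def, ← Algebra.smul_def,
        ← ZMod.natCast_zmod_val c, Nat.cast_smul_eq_nsmul, Nat.cast_smul_eq_nsmul, map_nsmul, map_nsmul,
        ← nsmul_eq_smul, ← neg_nsmul]
      congr 1
      set j := (q - 1) * n
      have hσ : C.σ ^ (n + j) = 1 := by
        rw [show n + j = q * n by
          simp only [j, Nat.sub_mul, one_mul]
          have := Nat.le_mul_of_pos_left n hqpos
          omega, pow_mul, C.pow_q, one_pow]
      apply Additive.toMul.injective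
      apply Subtype.ext
      rw [toMul_neg, InvMemClass.coe_inv,
        show ν ^ n = C.val ((C.σ ^ j) e) by rw [C.val_σ_pow, hs, mul_one, hν, ← pow_mul],
        show μ ^ n = C.val ((C.σ ^ n) e) by rw [C.val_σ_pow, hs, mul_one], hf, hf,
        commutatorElement_inv, ← hinv n e ((C.σ ^ j) e), ← MulAut.mul_apply, ← pow_add, hσ]
      rfl
  rcases Nat.mod_two_eq_zero_or_one a with hev | hodd
  · -- even degree: `f` kills the traces
    rw [hev, if_neg (by decide)] at ha₀
    set b := a / 2
    have hab : a = 2 * b := by omega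
    have hb : b ≠ 0 := fun h => orderOf_natCast_ne_zero (p := p) hpq (by rw [← ha]; omega)
    haveI : CharP F p := charP_of_injective_algebraMap (algebraMap (ZMod p) F).injective p
    have hpb : μ ^ p ^ b = ν := by
      have h1 : ((p : ZMod q) ^ b) * ((p : ZMod q) ^ b) = 1 := by
        rw [← pow_add, ← two_mul, ← hab, ha, pow_orderOf_eq_one]
      have h2 : (p : ZMod q) ^ b ≠ 1 := fun h => by
        have := Nat.le_of_dvd (Nat.pos_of_ne_zero hb) (ha ▸ orderOf_dvd_of_pow_eq_one h)
        omega
      have h3 : (((p ^ b + 1 : ℕ) : ZMod q)) = 0 := by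
        push_cast
        rw [(mul_self_eq_one_iff.1 h1).resolve_left h2, neg_add_cancel]
      have h4 : μ ^ (p ^ b + 1) = 1 :=
        orderOf_dvd_iff_pow_eq_one.1 (hμ ▸ (ZMod.natCast_eq_zero_iff _ _).1 h3)
      rw [pow_succ] at h4
      exact mul_right_cancel₀ (b := μ) (fun h => by rw [h, mul_zero] at hνμ; exact zero_ne_one hνμ)
        (h4.trans hνμ.symm)
    have hφ : ∀ x : F, f (x ^ p ^ b) = - f x := fun x => by
      obtain ⟨g, rfl⟩ := hgen x
      rw [← hanti, ← hpb]
      refine congrArg f ?_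
      induction g using Polynomial.induction_on' with
      | add g g' hg hg' => rw [map_add, map_add, add_pow_char_pow, hg, hg']
      | monomial n c =>
        rw [aeval_monomial, aeval_monomial, mul_pow, ← map_pow, ZMod.pow_card_pow, ← pow_mul,
          ← pow_mul, mul_comm n]
    let T : F →+ F := AddMonoidHom.mk' (fun x => x + x ^ p ^ b) fun x y => by
      rw [add_pow_char_pow]; ring
    let D : F →+ F := AddMonoidHom.mk' (fun x => x ^ p ^ b - x) fun x y => by
      rw [add_pow_char_pow]; ring
    obtain ⟨-, hT, -, -⟩ := card_ker_trace hb (hab ▸ hF) T D (fun _ => rfl) fun _ => rfl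
    have h5 : T.range ≤ f.ker := by
      rintro _ ⟨x, rfl⟩
      show f (x + x ^ p ^ b) = 0
      rw [map_add, hφ, add_neg_cancel]
    have h6 : Nat.card f.ker * Nat.card f.range = p ^ b * p ^ b := by
      rw [← pow_add, ← two_mul, ← hab, ← hF, AddSubgroup.card_eq_card_quotient_mul_card_addSubgroup f.ker,
        Nat.card_congr (QuotientAddGroup.quotientKerEquivRange f).toEquiv, mul_comm]
    have h7 : Nat.card f.range ≤ p ^ b := by
      refine Nat.le_of_mul_le_mul_left ?_ (pow_pos (Fact.out : p.Prime).pos b)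
      rw [← h6]
      exact Nat.mul_le_mul_right _ (hT ▸ AddSubgroup.card_le_of_le h5)
    rw [hM, show a₀ = a + b by omega, pow_add]
    exact Nat.mul_le_mul_left _ (hker.trans h7)
  · -- odd degree: `f = 0`
    rw [hodd, if_pos rfl] at ha₀
    have hf0 : ∀ x, f x = 0 := by
      by_cases hν1 : ν = μ
      · -- then `q = 2` and the degree is one
        have hq2 : q ∣ 2 := hμ ▸ orderOf_dvd_of_pow_eq_one (by rw [pow_two]; nth_rw 1 [← hν1]; exact hνμ)
        have h2 : (μ : F) = -1 := ((mul_self_eq_one_iff).1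
          (by nth_rw 1 [← hν1]; exact hνμ)).resolve_left hμ1
        intro x
        have h1 : f 1 = 0 := by
          apply Additive.toMul.injective
          apply Subtype.ext
          rw [← hs 1, hf]
          exact commutatorElement_self _
        refine span_powers hgen f.ker (fun i => ?_) x
        rw [AddMonoidHom.mem_ker, h2]
        rcases neg_one_pow_eq_or F i with h | h <;> rw [h] <;> simp [h1]
      · -- `ν` is a root of no polynomial killing `μ`
        have hh : aeval ν (minpoly (ZMod p) μ) ≠ 0 := by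
          intro h0
          haveI : FiniteDimensional (ZMod p) F := Module.Finite.of_finite
          -- an automorphism of order two
          set K := AdjoinRoot (minpoly (ZMod p) μ)
          let τ₁ : K →ₐ[ZMod p] F := AdjoinRoot.liftAlgHom _ (Algebra.ofId (ZMod p) F) μ
            (minpoly.aeval _ _)
          let τ₂ : K →ₐ[ZMod p] F := AdjoinRoot.liftAlgHom _ (Algebra.ofId (ZMod p) F) ν h0
          haveI : Fact (Irreducible (minpoly (ZMod p) μ)) :=
            ⟨minpoly.irreducible (IsIntegral.of_finite (ZMod p) μ)⟩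
          have hb1 : Function.Bijective τ₁ := ⟨(τ₁ : K →+* F).injective, fun y => by
            obtain ⟨g, rfl⟩ := hgen y
            exact ⟨AdjoinRoot.mk _ g, AdjoinRoot.liftAlgHom_mk ..⟩⟩
          let τ : F →ₐ[ZMod p] F := τ₂.comp (AlgEquiv.ofBijective τ₁ hb1).symm.toAlgHom
          have hτ : τ μ = ν := by
            have : (AlgEquiv.ofBijective τ₁ hb1).symm μ = AdjoinRoot.root _ := by
              rw [AlgEquiv.symm_apply_eq]; exact (AdjoinRoot.liftAlgHom_root (minpoly (ZMod p) μ) (Algebra.ofId (ZMod p) F) μ (minpoly.aeval _ _)).symm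
            show τ₂ _ = ν
            erw [this]
            exact AdjoinRoot.liftAlgHom_root ..
          let τe : F ≃ₐ[ZMod p] F := AlgEquiv.ofBijective τ (Algebra.IsAlgebraic.algHom_bijective τ)
          have hτ2 : τe * τe = 1 := by
            refine AlgEquiv.ext fun x => ?_
            obtain ⟨g, rfl⟩ := hgen x
            show τ (τ (aeval μ g)) = aeval μ g
            rw [← Polynomial.aeval_algHom_apply, hτ, ← Polynomial.aeval_algHom_apply]
            refine congrArg (fun z => aeval z g) ?_
            rw [hν, map_pow, hτ, hν]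
            calc (μ ^ (q - 1)) ^ (q - 1) = (μ ^ (q - 1)) ^ (q - 1) * (ν * μ) := by rw [hνμ, mul_one]
              _ = (μ ^ q) ^ (q - 1) * μ := by
                rw [hν, ← mul_assoc, ← pow_succ, Nat.sub_add_cancel hqpos, ← pow_mul, ← pow_mul,
                  mul_comm q]
              _ = μ := by rw [hμq, one_pow, one_mul]
          have h4 : orderOf τe ∣ 1 := by
            have hd1 : orderOf τe ∣ 2 := orderOf_dvd_of_pow_eq_one (by rw [pow_two, hτ2])
            have hd2 : orderOf τe ∣ a := by
              have hfin : Module.finrank (ZMod p) F = a := by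
                refine Nat.pow_right_injective (Fact.out : p.Prime).two_le ?_
                show p ^ _ = p ^ _
                rw [← hF, Module.natCard_eq_pow_finrank (K := ZMod p), Nat.card_zmod]
              rw [← hfin, ← IsGalois.card_aut_eq_finrank]
              exact orderOf_dvd_natCard _
            have : Nat.Coprime 2 a := Nat.coprime_two_left.2 (Nat.odd_iff.2 hodd)
            exact this ▸ Nat.dvd_gcd hd1 hd2
          have h5 : τe = 1 := orderOf_eq_one_iff.1 (Nat.dvd_one.1 h4)
          exact hν1 (hτ.symm.trans (congrArg (fun u : F ≃ₐ[ZMod p] F => u μ) h5))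
        intro x
        have hgen' : Function.Surjective (aeval ν : (ZMod p)[X] → F) := fun y => by
          obtain ⟨g, rfl⟩ := hgen y
          refine ⟨g.comp (X ^ (q - 1)), ?_⟩
          rw [aeval_comp, map_pow, aeval_X]
          refine congrArg (fun z => aeval z g) ?_
          calc ν ^ (q - 1) = ν ^ (q - 1) * (ν * μ) := by rw [hνμ, mul_one]
            _ = ν ^ q * μ := by rw [← mul_assoc, ← pow_succ, Nat.sub_add_cancel hqpos]
            _ = μ := by rw [hν, ← pow_mul, mul_comm (q - 1) q, pow_mul, hμq, one_pow, one_mul]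
        obtain ⟨g, hg⟩ := hgen' (x / aeval ν (minpoly (ZMod p) μ))
        have h1 := hanti (minpoly (ZMod p) μ * g)
        rw [map_mul, hg, mul_div_cancel₀ _ hh, map_mul (aeval μ), minpoly.aeval, zero_mul, map_zero,
          neg_zero] at h1
        exact h1
    have : Nat.card f.range = 1 := by
      rw [AddSubgroup.card_eq_one, eq_bot_iff]
      rintro _ ⟨x, rfl⟩
      exact hf0 x
    rw [hM, ha₀]
    calc p ^ a * Nat.card C.π.ker ≤ p ^ a * 1 := Nat.mul_le_mul_left _ (hker.trans this.le)
      _ = p ^ a := mul_one _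

end Cfsg.Agent.Schmidt
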