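import Mathlib

/-!
Central covers of a cyclically generated module over a finite field: the bound `p ^ (3 a / 2)` on their order
and the unitary covers attaining it.
-/

set_option autoImplicit false

namespace Cfsg.Agent.Schmidt

open Polynomial
open scoped commutatorElement

/-- A central cover of `(F, +)` with an automorphism inducing multiplication by `μ`. -/
structure Cover (q : ℕ) {F : Type*} [Field F] (μ : F) (M : Type*) [Group M] where
  σ : MulAut M
  π : M →* Multiplicative F
  surj : Function.Surjective π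
  comm : ∀ m, (π (σ m)).toAdd = μ * (π m).toAdd
  pow_q : σ ^ q = 1
  central : π.ker ≤ Subgroup.center M
  fix : ∀ m ∈ π.ker, σ m = m
  min : ∀ N : Subgroup M, (∀ x ∈ N, σ x ∈ N) → N.map π = ⊤ → N = ⊤

namespace Cover

variable {q : ℕ} {F : Type*} [Field F] {μ : F} {M : Type*} [Group M] (C : Cover q μ M)

/-- The underlying element of the field. -/
def val (m : M) : F := (C.π m).toAdd

theorem val_mul (x y : M) : C.val (x * y) = C.val x + C.val y := by simp [val]

theorem val_inv (x : M) : C.val x⁻¹ = - C.val x := by simp [val]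

theorem val_σ (m : M) : C.val (C.σ m) = μ * C.val m := C.comm m

theorem val_σ_pow (i : ℕ) (m : M) : C.val ((C.σ ^ i) m) = μ ^ i * C.val m := by
  induction i with
  | zero => simp
  | succ i ih => rw [pow_succ', MulAut.mul_apply, val_σ, ih, pow_succ']; ring

theorem mem_ker {m : M} : m ∈ C.π.ker ↔ C.val m = 0 := by
  rw [MonoidHom.mem_ker]
  exact ⟨fun h => by simp [val, h], fun h => Multiplicative.toAdd.injective (by simpa [val] using h)⟩

theorem exists_val (y : F) : ∃ m, C.val m = y := by
  obtain ⟨m, hm⟩ := C.surj (Multiplicative.ofAdd y)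
  exact ⟨m, by simp [val, hm]⟩

/-- The differences generate. -/
theorem closure_diff_eq_top (hμ : μ ≠ 1) :
    Subgroup.closure (Set.range fun m : M => m⁻¹ * C.σ m) = ⊤ := by
  refine C.min _ (fun x hx => ?_) ?_
  · induction hx using Subgroup.closure_induction with
    | mem x hx =>
      obtain ⟨m, rfl⟩ := hx
      exact Subgroup.subset_closure ⟨C.σ m, by simp⟩
    | one => simp
    | mul x y _ _ hx hy => rw [map_mul]; exact mul_mem hx hy
    | inv x _ hx => rw [map_inv]; exact inv_mem hx
  · refine eq_top_iff.2 fun y _ => ?_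
    obtain ⟨m, hm⟩ := C.exists_val (y.toAdd / (μ - 1))
    refine ⟨m⁻¹ * C.σ m, Subgroup.subset_closure ⟨m, rfl⟩, Multiplicative.toAdd.injective ?_⟩
    show C.val (m⁻¹ * C.σ m) = _
    rw [val_mul, val_inv, val_σ, hm]
    field_simp [sub_ne_zero.2 hμ]
    ring

/-- The kernel consists of products of commutators. -/
theorem ker_le_commutator (hμ : μ ≠ 1) [Finite M] : C.π.ker ≤ commutator M := by
  intro k hk
  let f : Abelianization M →* Abelianization M := Abelianization.map C.σ.toMonoidHom
  let δ : Abelianization M →* Abelianization M :=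
    { toFun := fun a => a⁻¹ * f a
      map_one' := by simp
      map_mul' := fun a b => by rw [map_mul, mul_inv, mul_mul_mul_comm] }
  have hsurj : Function.Surjective δ := by
    rw [← MonoidHom.range_eq_top, eq_top_iff]
    intro y _
    obtain ⟨m, rfl⟩ : ∃ m, Abelianization.of m = y := QuotientGroup.mk_surjective y
    have hm : m ∈ Subgroup.closure (Set.range fun m : M => m⁻¹ * C.σ m) :=
      C.closure_diff_eq_top hμ ▸ Subgroup.mem_top m
    refine (Subgroup.closure_le (K := δ.range.comap Abelianization.of)).2 ?_ hm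
    rintro _ ⟨m, rfl⟩
    exact ⟨Abelianization.of m, by simp [δ, f]⟩
  haveI : Finite (Abelianization M) := inferInstanceAs (Finite (M ⧸ commutator M))
  have hinj := Finite.injective_iff_surjective.2 hsurj
  have h1 : δ (Abelianization.of k) = δ 1 := by simp [δ, f, C.fix k hk]
  exact (QuotientGroup.eq_one_iff k).1 (hinj h1)

/-- A subgroup mapping onto `F` is everything. -/
theorem eq_top_of_map (hμ : μ ≠ 1) [Finite M] {N : Subgroup M} (hN : N.map C.π = ⊤) : N = ⊤ := by
  have hdec : ∀ m : M, ∃ n ∈ N, ∃ z ∈ Subgroup.center M, m = n * z ∧ n⁻¹ * m ∈ C.π.ker := by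
    intro m
    obtain ⟨n, hn, hnm⟩ : C.π m ∈ N.map C.π := hN ▸ Subgroup.mem_top _
    have hk : n⁻¹ * m ∈ C.π.ker := by simp [MonoidHom.mem_ker, hnm]
    exact ⟨n, hn, _, C.central hk, (mul_inv_cancel_left n m).symm, hk⟩
  have hcomm : commutator M ≤ N := by
    rw [commutator_def, Subgroup.commutator_le]
    intro x _ y _
    obtain ⟨n, hn, z, hz, rfl, -⟩ := hdec x
    obtain ⟨n', hn', z', hz', rfl, -⟩ := hdec y
    rw [commutatorElement_def,
      show n * z * (n' * z') * (n * z)⁻¹ * (n' * z')⁻¹ = n * n' * n⁻¹ * n'⁻¹ by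
        have h1 := Subgroup.mem_center_iff.1 hz
        have h2 := Subgroup.mem_center_iff.1 hz'
        simp only [mul_inv_rev, mul_assoc]
        rw [← mul_assoc z n', ← h1 n']
        simp only [mul_assoc]
        rw [← mul_assoc z z', ← h1 z', mul_assoc z']
        simp only [← mul_assoc]
        rw [mul_assoc _ z z⁻¹, mul_inv_cancel, mul_one, mul_assoc (n * n') z' n⁻¹, ← h2 n⁻¹]
        simp only [← mul_assoc]
        rw [mul_assoc _ z' z'⁻¹, mul_inv_cancel, mul_one]]
    exact mul_mem (mul_mem (mul_mem hn hn') (inv_mem hn)) (inv_mem hn')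
  rw [eq_top_iff]
  intro m _
  obtain ⟨n, hn, -, -, -, hk⟩ := hdec m
  have := mul_mem hn (hcomm (C.ker_le_commutator hμ hk))
  rwa [mul_inv_cancel_left] at this

end Cover

/-! ### The field -/

section Field

variable {p : ℕ} [Fact p.Prime] {q : ℕ} [Fact q.Prime] {F : Type*} [Field F] [Finite F] [Algebra (ZMod p) F]

theorem span_powers {μ : F} (hgen : Function.Surjective (aeval μ : (ZMod p)[X] → F))
    (S : AddSubgroup F) (h : ∀ i : ℕ, μ ^ i ∈ S) (x : F) : x ∈ S := by
  obtain ⟨g, rfl⟩ := hgen x
  induction g using Polynomial.induction_on' with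
  | add g g' hg hg' => rw [map_add]; exact S.add_mem hg hg'
  | monomial n c =>
    rw [aeval_monomial, ← Algebra.smul_def, ← ZMod.natCast_zmod_val c, Nat.cast_smul_eq_nsmul]
    exact S.nsmul_mem (h n) _

/-- A root of unity of order `q` generates the field of degree the order of `p` modulo `q`. -/
theorem surjective_aeval (hpq : p ≠ q) {μ : F} (hμ : orderOf μ = q)
    (hF : Nat.card F = p ^ orderOf (p : ZMod q)) :
    Function.Surjective (aeval μ : (ZMod p)[X] → F) := by
  haveI : FiniteDimensional (ZMod p) F := Module.Finite.of_finite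
  set K := IntermediateField.adjoin (ZMod p) ({μ} : Set F) with hK
  have hμK : μ ∈ K := IntermediateField.mem_adjoin_simple_self _ μ
  have hcard : Nat.card K = p ^ Module.finrank (ZMod p) K := by
    rw [Module.natCard_eq_pow_finrank (K := ZMod p), Nat.card_zmod]
  have hd : orderOf (p : ZMod q) ≤ Module.finrank (ZMod p) K := by
    refine Nat.le_of_dvd Module.finrank_pos (orderOf_dvd_of_pow_eq_one ?_)
    have hne : (⟨μ, hμK⟩ : K) ≠ 0 := fun h => by
      have h0 : μ = 0 := congrArg Subtype.val h
      rw [h0, orderOf_zero] at hμ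
      exact (Fact.out : q.Prime).ne_zero hμ.symm
    letI : Fintype K := Fintype.ofFinite K
    have h1 : (⟨μ, hμK⟩ : K) ^ (Nat.card K - 1) = 1 := by
      rw [Nat.card_eq_fintype_card]; exact FiniteField.pow_card_sub_one_eq_one _ hne
    have h2 : q ∣ Nat.card K - 1 := hμ ▸ orderOf_dvd_of_pow_eq_one (congrArg Subtype.val h1)
    have h3 : ((Nat.card K : ℕ) : ZMod q) = 1 := by
      have h4 : Nat.card K = (Nat.card K - 1) + 1 := by
        have := Nat.card_pos (α := K)
        omega
      rw [h4, Nat.cast_add, (ZMod.natCast_eq_zero_iff _ _).2 h2, zero_add, Nat.cast_one]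
    rwa [hcard, Nat.cast_pow] at h3
  have hfin : Module.finrank (ZMod p) F = orderOf (p : ZMod q) := by
    refine Nat.pow_right_injective (Fact.out : p.Prime).two_le ?_
    show p ^ _ = p ^ _
    rw [← hF, Module.natCard_eq_pow_finrank (K := ZMod p), Nat.card_zmod]
  have htop : K = ⊤ := by
    refine IntermediateField.toSubalgebra_injective
      (Subalgebra.toSubmodule_injective (Submodule.eq_top_of_finrank_eq ?_))
    exact le_antisymm K.toSubalgebra.toSubmodule.finrank_le (hfin ▸ hd)
  intro x
  have hx : x ∈ K.toSubalgebra := by rw [htop]; trivial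
  rw [hK, IntermediateField.adjoin_simple_toSubalgebra_of_isAlgebraic
      (IsAlgebraic.of_finite (ZMod p) μ), Algebra.adjoin_singleton_eq_range_aeval] at hx
  exact hx

/-- The number of roots of `x ↦ x ^ n + c x`. -/
theorem card_roots_le {n : ℕ} (hn : 1 < n) (c : F) :
    Nat.card {x : F // x ^ n + c * x = 0} ≤ n := by
  classical
  set g : F[X] := X ^ n + C c * X with hg
  have hdeg : g.natDegree = n := by
    rw [hg, natDegree_add_eq_left_of_natDegree_lt] <;> rw [natDegree_X_pow]
    exact lt_of_le_of_lt (natDegree_C_mul_le _ _) (by simpa using hn)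
  have hg0 : g ≠ 0 := fun h => by rw [h, natDegree_zero] at hdeg; omega
  calc Nat.card {x : F // x ^ n + c * x = 0} ≤ Nat.card g.roots.toFinset := by
        refine Nat.card_le_card_of_injective (fun x => ⟨x.1, ?_⟩)
          fun x y h => Subtype.ext (congrArg (fun z : g.roots.toFinset => (z : F)) h)
        rw [Multiset.mem_toFinset, mem_roots hg0]
        simp [hg, x.2]
    _ ≤ n := by
        rw [Nat.card_eq_fintype_card, Fintype.card_coe, ← hdeg]
        exact (Multiset.toFinset_card_le _).trans (card_roots' g)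

end Field

end Cfsg.Agent.Schmidt
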