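import Cfsg.Agent.Schmidt.Bound

/-!
The covers of order `p ^ a₀`: the field itself in odd degree, the unitary group of Heisenberg type in even degree.
-/

set_option autoImplicit false

namespace Cfsg.Agent.Schmidt

universe v

open Polynomial

variable {F : Type v} [Field F]

/-- The pairs `(x, z)` with `z + τ z = τ x * x`. -/
@[ext]
structure Unitary (τ : F →+* F) (hτ : ∀ x, τ (τ x) = x) where
  x : F
  z : F
  eq : z + τ z = τ x * x

namespace Unitary

variable {τ : F →+* F} {hτ : ∀ x, τ (τ x) = x}

instance : Mul (Unitary τ hτ) :=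
  ⟨fun g h => ⟨g.x + h.x, g.z + h.z + τ g.x * h.x, by
    rw [map_add τ g.x, map_add, map_add, map_mul, hτ]
    linear_combination g.eq + h.eq⟩⟩

instance : One (Unitary τ hτ) := ⟨⟨0, 0, by simp⟩⟩

instance : Inv (Unitary τ hτ) :=
  ⟨fun g => ⟨-g.x, -g.z + τ g.x * g.x, by
    rw [map_neg, map_add, map_neg, map_mul, hτ]
    linear_combination -g.eq⟩⟩

theorem mul_x (g h : Unitary τ hτ) : (g * h).x = g.x + h.x := rfl
theorem mul_z (g h : Unitary τ hτ) : (g * h).z = g.z + h.z + τ g.x * h.x := rfl
theorem one_x : (1 : Unitary τ hτ).x = 0 := rfl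
theorem one_z : (1 : Unitary τ hτ).z = 0 := rfl
theorem inv_x (g : Unitary τ hτ) : g⁻¹.x = -g.x := rfl
theorem inv_z (g : Unitary τ hτ) : g⁻¹.z = -g.z + τ g.x * g.x := rfl

instance : Group (Unitary τ hτ) :=
  Group.ofLeftAxioms
    (fun a b c => Unitary.ext (by simp only [mul_x]; ring)
      (by simp only [mul_z, mul_x, map_add]; ring))
    (fun a => Unitary.ext (by simp [mul_x, one_x]) (by simp [mul_z, one_x, one_z]))
    (fun a => Unitary.ext (by simp [mul_x, inv_x, one_x])
      (by simp only [mul_z, inv_z, inv_x, one_z, map_neg]; ring))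

instance [Finite F] : Finite (Unitary τ hτ) :=
  Finite.of_injective (fun g => (g.x, g.z)) fun g h he =>
    Unitary.ext (congrArg Prod.fst he) (congrArg Prod.snd he)

variable (τ hτ) in
/-- The first coordinate. -/
def proj : Unitary τ hτ →* Multiplicative F where
  toFun g := Multiplicative.ofAdd g.x
  map_one' := rfl
  map_mul' _ _ := rfl

theorem mem_ker_proj {g : Unitary τ hτ} : g ∈ (proj τ hτ).ker ↔ g.x = 0 := by
  rw [MonoidHom.mem_ker]
  exact ⟨fun h => Multiplicative.ofAdd.injective h, fun h => congrArg Multiplicative.ofAdd h⟩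

variable (τ hτ) in
/-- Scaling the first coordinate by a norm one element. -/
def scale (μ : F) (hμ : τ μ * μ = 1) : MulAut (Unitary τ hτ) where
  toFun g := ⟨μ * g.x, g.z, by rw [map_mul, g.eq]; linear_combination -(τ g.x * g.x) * hμ⟩
  invFun g := ⟨τ μ * g.x, g.z, by rw [map_mul, hτ, g.eq]; linear_combination -(τ g.x * g.x) * hμ⟩
  left_inv g := Unitary.ext (show τ μ * (μ * g.x) = g.x by rw [← mul_assoc, hμ, one_mul]) rfl
  right_inv g := Unitary.ext (show μ * (τ μ * g.x) = g.x by rw [← mul_assoc, mul_comm μ, hμ, one_mul]) rfl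
  map_mul' g h := Unitary.ext (mul_add μ g.x h.x)
    (by show g.z + h.z + τ g.x * h.x = g.z + h.z + τ (μ * g.x) * (μ * h.x)
        rw [map_mul]; linear_combination -(τ g.x * h.x) * hμ)

theorem scale_pow {μ : F} (hμ : τ μ * μ = 1) (i : ℕ) (g : Unitary τ hτ) :
    ((scale τ hτ μ hμ ^ i) g).x = μ ^ i * g.x ∧ ((scale τ hτ μ hμ ^ i) g).z = g.z := by
  induction i with
  | zero => simp
  | succ i ih =>
    rw [pow_succ', MulAut.mul_apply]
    exact ⟨show μ * _ = _ by rw [ih.1, pow_succ']; ring, ih.2⟩

end Unitary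

variable {p : ℕ} [Fact p.Prime] {q : ℕ} [Fact q.Prime] [Finite F] [Algebra (ZMod p) F] {μ : F}

omit [Finite F] [Algebra (ZMod p) F] in
/-- In even degree `2 b`, `q` divides `p ^ b + 1`. -/
theorem pow_add_one_eq_one {a b : ℕ} (ha : a = orderOf (p : ZMod q)) (hab : a = 2 * b) (hb : b ≠ 0)
    (hμ : orderOf μ = q) : μ ^ (p ^ b + 1) = 1 := by
  have h1 : ((p : ZMod q) ^ b) * ((p : ZMod q) ^ b) = 1 := by
    rw [← pow_add, ← two_mul, ← hab, ha, pow_orderOf_eq_one]
  have h2 : (p : ZMod q) ^ b ≠ 1 := fun h => by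
    have := Nat.le_of_dvd (Nat.pos_of_ne_zero hb) (ha ▸ orderOf_dvd_of_pow_eq_one h)
    omega
  have h3 : (((p ^ b + 1 : ℕ) : ZMod q)) = 0 := by
    push_cast
    rw [(mul_self_eq_one_iff.1 h1).resolve_left h2, neg_add_cancel]
  exact orderOf_dvd_iff_pow_eq_one.1 (hμ ▸ (ZMod.natCast_eq_zero_iff _ _).1 h3)

/-- Covers of order `p ^ a₀` exist. -/
theorem exists_cover (hpq : p ≠ q) (hμ : orderOf μ = q) {a a₀ : ℕ} (ha : a = orderOf (p : ZMod q))
    (ha₀ : a₀ = if a % 2 = 1 then a else 3 * a / 2) (hF : Nat.card F = p ^ a) :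
    ∃ (M : Type v) (_ : Group M) (_ : Finite M), Nonempty (Cover q μ M) ∧ Nat.card M = p ^ a₀ := by
  have hμq : μ ^ q = 1 := hμ ▸ pow_orderOf_eq_one μ
  have hμ0 : μ ≠ 0 := fun h => by
    rw [h, orderOf_zero] at hμ
    exact (Fact.out : q.Prime).ne_zero hμ.symm
  rcases Nat.mod_two_eq_zero_or_one a with hev | hodd
  · rw [hev, if_neg (by decide)] at ha₀
    set b := a / 2
    have hab : a = 2 * b := by omega
    have hb : b ≠ 0 := fun h => orderOf_natCast_ne_zero (p := p) hpq (by rw [← ha]; omega)
    haveI : CharP F p := charP_of_injective_algebraMap (algebraMap (ZMod p) F).injective p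
    letI : Fintype F := Fintype.ofFinite F
    set τ : F →+* F := iterateFrobenius F p b with hτdef
    have hτv : ∀ x, τ x = x ^ p ^ b := fun x => iterateFrobenius_def p b x
    have hττ : ∀ x, τ (τ x) = x := fun x => by
      rw [hτv, hτv, ← pow_mul, ← pow_add, ← two_mul, ← hab, ← hF, Nat.card_eq_fintype_card,
        FiniteField.pow_card]
    have hμτ : τ μ * μ = 1 := by
      rw [hτv, ← pow_succ]; exact pow_add_one_eq_one ha hab hb hμ
    let T : F →+ F := AddMonoidHom.mk' (fun x => x + τ x) fun x y => by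
      rw [map_add]; ring
    let D : F →+ F := AddMonoidHom.mk' (fun x => τ x - x) fun x y => by
      rw [map_add]; ring
    obtain ⟨hkT, -, hTD, hDT⟩ := card_ker_trace hb (hab ▸ hF) T D
      (fun x => by show x + τ x = _; rw [hτv]) fun x => by show τ x - x = _; rw [hτv]
    have hsurj : Function.Surjective (Unitary.proj τ hττ) := by
      intro y
      obtain ⟨z, hz⟩ := hDT (show τ y.toAdd * y.toAdd ∈ D.ker by
        rw [AddMonoidHom.mem_ker]
        show τ (τ y.toAdd * y.toAdd) - τ y.toAdd * y.toAdd = 0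
        rw [map_mul, hττ]; ring)
      exact ⟨⟨y.toAdd, z, hz⟩, rfl⟩
    refine ⟨Unitary τ hττ, inferInstance, inferInstance, ⟨
      { σ := Unitary.scale τ hττ μ hμτ
        π := Unitary.proj τ hττ
        surj := hsurj
        comm := fun m => rfl
        pow_q := MulEquiv.ext fun g => Unitary.ext
          (by rw [(Unitary.scale_pow hμτ q g).1, hμq, one_mul]; rfl) (Unitary.scale_pow hμτ q g).2
        central := fun g hg => Subgroup.mem_center_iff.2 fun h => by
          have h0 := Unitary.mem_ker_proj.1 hg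
          exact Unitary.ext (by simp [Unitary.mul_x, h0])
            (by simp [Unitary.mul_z, h0, add_comm])
        fix := fun g hg => Unitary.ext
          (show μ * g.x = g.x by rw [Unitary.mem_ker_proj.1 hg, mul_zero]) rfl
        min := ?_ }⟩, ?_⟩
    · intro N _ hN
      have hex : ∀ x : F, ∃ g ∈ N, g.x = x := fun x => by
        obtain ⟨g, hg, hgx⟩ : Multiplicative.ofAdd x ∈ N.map (Unitary.proj τ hττ) := hN ▸ Subgroup.mem_top _
        exact ⟨g, hg, Multiplicative.ofAdd.injective hgx⟩
      have hker : ∀ g : Unitary τ hττ, g.x = 0 → g ∈ N := by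
        intro g hg
        have hgz : g.z ∈ T.ker := by
          rw [AddMonoidHom.mem_ker]
          show g.z + τ g.z = 0
          rw [g.eq, hg, mul_zero]
        obtain ⟨y, hy⟩ := hTD hgz
        obtain ⟨A, hA, hA1⟩ := hex 1
        obtain ⟨B, hB, hB1⟩ := hex (-y)
        have : g = A * B * (B * A)⁻¹ := by
          rw [eq_mul_inv_iff_mul_eq]
          refine Unitary.ext ?_ ?_
          · simp only [Unitary.mul_x, hg]; ring
          · simp only [Unitary.mul_z, Unitary.mul_x, hg, hA1, hB1, map_one, map_zero, map_neg]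
            rw [← hy]
            show τ y - y + _ + _ = _
            ring
        rw [this]
        exact mul_mem (mul_mem hA hB) (inv_mem (mul_mem hB hA))
      rw [eq_top_iff]
      intro g _
      obtain ⟨n, hn, hnx⟩ := hex g.x
      have := mul_mem hn (hker (n⁻¹ * g) (by rw [Unitary.mul_x, Unitary.inv_x, hnx, neg_add_cancel]))
      rwa [mul_inv_cancel_left] at this
    · rw [Subgroup.card_eq_card_quotient_mul_card_subgroup (Unitary.proj τ hττ).ker,
        Nat.card_congr (QuotientGroup.quotientKerEquivOfSurjective _ hsurj).toEquiv,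
        show a₀ = a + b by omega, pow_add, ← hkT]
      refine congrArg₂ (· * ·) hF (Nat.card_congr
        { toFun := fun g => ⟨g.1.z, by
            rw [AddMonoidHom.mem_ker]
            show g.1.z + τ g.1.z = 0
            rw [g.1.eq, Unitary.mem_ker_proj.1 g.2, mul_zero]⟩
          invFun := fun z => ⟨⟨0, z.1, by
            have h := z.2
            rw [AddMonoidHom.mem_ker] at h
            rw [mul_zero]; exact h⟩, Unitary.mem_ker_proj.2 rfl⟩
          left_inv := fun g => Subtype.ext (Unitary.ext (Unitary.mem_ker_proj.1 g.2).symm rfl)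
          right_inv := fun z => rfl })
  · rw [hodd, if_pos rfl] at ha₀
    let σ : MulAut (Multiplicative F) :=
      AddEquiv.toMultiplicative
        { toFun := fun x => μ * x
          invFun := fun x => μ⁻¹ * x
          left_inv := fun x => inv_mul_cancel_left₀ hμ0 x
          right_inv := fun x => mul_inv_cancel_left₀ hμ0 x
          map_add' := mul_add μ }
    have hσ : ∀ (i : ℕ) (m : Multiplicative F), ((σ ^ i) m).toAdd = μ ^ i * m.toAdd := by
      intro i m
      induction i with
      | zero => simp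
      | succ i ih =>
        rw [pow_succ', MulAut.mul_apply]
        show μ * _ = _
        rw [ih, pow_succ']; ring
    refine ⟨Multiplicative F, inferInstance, inferInstance, ⟨
      { σ := σ
        π := MonoidHom.id _
        surj := Function.surjective_id
        comm := fun m => rfl
        pow_q := MulEquiv.ext fun m => Multiplicative.toAdd.injective (by rw [hσ, hμq, one_mul]; rfl)
        central := fun g _ => Subgroup.mem_center_iff.2 fun h => mul_comm h g
        fix := fun g hg => by
          rw [MonoidHom.mem_ker, MonoidHom.id_apply] at hg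
          rw [hg, map_one]
        min := fun N _ hN => by rwa [Subgroup.map_id] at hN }⟩, ?_⟩
    rw [ha₀, ← hF]
    exact Nat.card_congr Multiplicative.toAdd

end Cfsg.Agent.Schmidt
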